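import Cfsg.Agent.Lib.Quad.Offender
import Cfsg.Agent.Lib.Coprime.Generation

/-!
# Best offenders in groups with self-centralizing `p'`-core
-/

set_option autoImplicit false

namespace Cfsg.Lib.Quad
open Subgroup Cfsg.Lib
open scoped commutatorElement

variable {G : Type*} [Group G] {p : ℕ}

/-- `H` acts faithfully on the elementary abelian group `V` and has a self-centralizing normal
`p'`-subgroup `N`. -/
structure FFSetup (p : ℕ) (V H N : Subgroup G) : Prop where
  ea : IsElementaryAbelian p V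
  norm : H ≤ normalizer (V : Set G)
  faith : H ⊓ centralizer (V : Set G) = ⊥
  le : N ≤ H
  normal : H ≤ normalizer (N : Set G)
  cop : (Nat.card N).Coprime p
  self : H ⊓ centralizer (N : Set G) ≤ N

theorem FFSetup.of_pPrimeCore [Finite G] {V H : Subgroup G} (hV : IsElementaryAbelian p V)
    (hHV : H ≤ normalizer (V : Set G)) (hf : H ⊓ centralizer (V : Set G) = ⊥)
    (hS1 : centralizer (pPrimeCore p H : Set H) ≤ pPrimeCore p H) :
    FFSetup p V H ((pPrimeCore p H).map H.subtype) :=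
  ⟨hV, hHV, hf, map_subtype_le _, le_normalizer_pPrimeCoreOf H, coprime_card_pPrimeCoreOf H,
    fun x hx => ⟨⟨x, hx.1⟩, hS1 fun y hy => Subtype.ext (hx.2 _ ⟨y, hy, rfl⟩), rfl⟩⟩

namespace FFSetup
variable {V H N : Subgroup G} (h : FFSetup p V H N)
include h

theorem eq_bot_of_le_centralizer {A : Subgroup G} (hA : A ≤ H)
    (hc : A ≤ centralizer (V : Set G)) : A = ⊥ := le_bot_iff.mp (h.faith ▸ le_inf hA hc)

theorem commutator_ne_bot {A : Subgroup G} (hA : A ≤ H) (hne : A ≠ ⊥) : ⁅V, A⁆ ≠ ⊥ :=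
  fun hc => hne (h.eq_bot_of_le_centralizer hA (commutator_eq_bot_iff'.mp hc))

theorem ea_of_bestOffender {A : Subgroup G} (hAH : A ≤ H) (hA : IsBestOffenderOn p V A) :
    IsElementaryAbelian p A := by
  refine ⟨commutator_self_eq_bot_iff.mp (h.eq_bot_of_le_centralizer
    ((commutator_le_self A).trans hAH) hA.2.1), fun a ha => ?_⟩
  exact mem_bot.mp (h.faith ▸ mem_inf.mpr ⟨pow_mem (hAH ha) p, hA.2.2 a ha⟩)

variable [Finite G] [hp : Fact p.Prime]

theorem not_dvd : ¬ p ∣ Nat.card N := (Nat.Prime.coprime_iff_not_dvd hp.out).mp h.cop.symm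

theorem coprimeAct {A : Subgroup G} (hAH : A ≤ H) (hA : IsPGroup p A) : CoprimeAct A N :=
  CoprimeAct.of_isPGroup hA h.not_dvd (hAH.trans h.normal)

theorem eq_bot_of_centralizes {A : Subgroup G} (hAH : A ≤ H) (hA : IsPGroup p A)
    (hc : N ≤ centralizer (A : Set G)) : A = ⊥ := by
  have := inf_eq_bot_of_isPGroup_of_coprime hA h.cop
  rwa [inf_eq_left.mpr ((le_inf hAH (le_centralizer_iff.mp hc)).trans h.self)] at this

theorem offMeasure_hyperplane {A B : Subgroup G} (hAH : A ≤ H) (hA : IsBestOffenderOn p V A)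
    (hB : B ≤ A) (hi : B.relIndex A = p)
    (hc : ¬ N ⊓ centralizer (B : Set G) ≤ centralizer (A : Set G)) :
    offMeasure V B = offMeasure V A := by
  have hea := h.ea_of_bestOffender hAH hA
  refine le_antisymm (hA.1 B hB) ?_
  have hle : V ⊓ centralizer (A : Set G) ≤ V ⊓ centralizer (B : Set G) :=
    inf_le_inf_left _ (centralizer_mono hB)
  have hne : V ⊓ centralizer (A : Set G) ≠ V ⊓ centralizer (B : Set G) := by
    intro heq
    have hAB : A ≤ normalizer (B : Set G) := ea_le_normalizer hea hB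
    have hact := (h.coprimeAct hAH (ea_isPGroup hea)).centralizer_act hAB
    set K := N ⊓ centralizer (B : Set G)
    have hQK : ⁅K, A⁆ ≤ K := hact.commutator_le
    have hKH : K ≤ H := inf_le_left.trans h.le
    have h1 : ⁅K, A⁆ ≤ centralizer ((V ⊓ centralizer (B : Set G) : Subgroup G) : Set G) := by
      have h2 : A ≤ centralizer ((V ⊓ centralizer (B : Set G) : Subgroup G) : Set G) :=
        le_centralizer_iff.mp (heq ▸ inf_le_right)
      refine (commutator_mono le_rfl h2).trans (le_normalizer_iff_commutator_le_right.mp ?_)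
      exact le_normalizer_centralizer (le_normalizer_inf (hKH.trans h.norm)
        (inf_le_right.trans le_normalizer))
    have h3 := thompson_AxB (B := ⁅K, A⁆) (ea_isPGroup (ea_mono hea hB)) (ea_isPGroup h.ea)
      (fun hd => h.not_dvd (hd.trans (card_dvd_of_le (hQK.trans inf_le_left))))
      (hB.trans (hAH.trans h.norm)) (hQK.trans (hKH.trans h.norm))
      (le_centralizer_iff.mp (hQK.trans inf_le_right)) (le_centralizer_iff.mp h1)
    exact hc (le_centralizer_of_commutator_eq_bot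
      (h.eq_bot_of_le_centralizer (hQK.trans hKH) (le_centralizer_iff.mp h3)))
  have h4 : p ∣ (V ⊓ centralizer (A : Set G)).relIndex (V ⊓ centralizer (B : Set G)) := by
    obtain ⟨n, hn⟩ := ((ea_isPGroup h.ea).to_inf_left (K := centralizer (B : Set G))).exists_card_eq
    have h5 := card_mul_relIndex_of_le hle
    obtain ⟨k, -, hk⟩ := (Nat.dvd_prime_pow hp.out).mp (hn ▸ Dvd.intro_left _ h5)
    rw [hk]
    refine dvd_pow_self p fun h0 => hne (le_antisymm hle ?_)
    rw [← relIndex_eq_one, hk, h0, pow_zero]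
  have h6 := Nat.le_of_dvd (Nat.pos_of_ne_zero (FiniteIndex.index_ne_zero)) h4
  unfold offMeasure
  rw [← card_mul_relIndex_of_le hB, ← card_mul_relIndex_of_le hle, hi, mul_assoc, mul_comm p]
  exact Nat.mul_le_mul_left _ (Nat.mul_le_mul_left _ h6)

/-- Every nontrivial subgroup of a best offender is avoided by a hyperplane of maximal measure. -/
theorem exists_hyperplane {A D : Subgroup G} (hAH : A ≤ H) (hA : IsBestOffenderOn p V A)
    (hD : D ≤ A) (hne : D ≠ ⊥) :
    ∃ B ≤ A, B.relIndex A = p ∧ offMeasure V B = offMeasure V A ∧ ¬ D ≤ B := by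
  have hea := h.ea_of_bestOffender hAH hA
  by_contra hcon
  push Not at hcon
  refine hne (h.eq_bot_of_centralizes (hD.trans hAH) (ea_isPGroup (ea_mono hea hD)) ?_)
  refine (h.coprimeAct hAH (ea_isPGroup hea)).le_of_hyperplane hea
    (fun h0 => hne (le_bot_iff.mp (h0 ▸ hD))) fun B hB hi => ?_
  by_cases hc : N ⊓ centralizer (B : Set G) ≤ centralizer (A : Set G)
  · exact hc.trans (centralizer_mono hD)
  · exact inf_le_right.trans
      (centralizer_mono (hcon B hB hi (h.offMeasure_hyperplane hAH hA hB hi hc)))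

theorem offMeasure_eq {A : Subgroup G} (hAH : A ≤ H) (hA : IsBestOffenderOn p V A) :
    offMeasure V A = Nat.card V := by
  obtain ⟨D, ⟨hD, hDm⟩, hmin⟩ := Set.Finite.exists_minimal
    (Set.toFinite {D : Subgroup G | D ≤ A ∧ offMeasure V D = offMeasure V A}) ⟨A, le_rfl, rfl⟩
  have h0 : D = ⊥ := by
    by_contra hne
    obtain ⟨B, hB, -, hBm, hDB⟩ := h.exists_hyperplane hAH hA hD hne
    exact hDB ((hmin ⟨inf_le_left.trans hD, (offMeasure_inf h.ea.1 hA.1 hD hB hDm hBm).1⟩
      inf_le_left).trans inf_le_right)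
  rw [← hDm, h0, offMeasure, card_bot, one_mul,
    inf_eq_left.mpr (le_centralizer_iff.mp (bot_le : ⊥ ≤ centralizer (V : Set G)))]

theorem card_eq_of_minimal {A : Subgroup G} (hAH : A ≤ H) (hA : IsBestOffenderOn p V A)
    (hAV : ⁅V, A⁆ ≠ ⊥)
    (hmin : ∀ B : Subgroup G, B ≤ A → IsBestOffenderOn p V B → ⁅V, B⁆ ≠ ⊥ → B = A) :
    Nat.card A = p := by
  obtain ⟨B, hB, hi, hBm, hAB⟩ := h.exists_hyperplane hAH hA le_rfl
    (fun h0 => hAV (by rw [h0, commutator_bot_right]))
  have : B = ⊥ := by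
    by_contra hne
    exact hAB (hmin B hB (bestOffender_of_le hA hB hBm) (h.commutator_ne_bot (hB.trans hAH) hne)).ge
  rwa [this, relIndex_bot_left] at hi

theorem relIndex_of_card {A : Subgroup G} (hAH : A ≤ H) (hA : IsBestOffenderOn p V A)
    (hc : Nat.card A = p) : (V ⊓ centralizer (A : Set G)).relIndex V = p := by
  have h1 := h.offMeasure_eq hAH hA
  rw [← card_mul_relIndex_of_le (inf_le_left : V ⊓ centralizer (A : Set G) ≤ V), offMeasure, hc,
    mul_comm] at h1
  exact (Nat.eq_of_mul_eq_mul_left Nat.card_pos h1).symm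

omit h in
theorem _root_.Cfsg.Lib.Quad.exists_zpowers_eq_of_card {A : Subgroup G} (hc : Nat.card A = p) :
    ∃ a, a ≠ 1 ∧ zpowers a = A := by
  have : A ≠ ⊥ := by
    rintro rfl
    exact hp.out.one_lt.ne (by simpa using hc)
  obtain ⟨⟨a, ha⟩, h1⟩ := (ne_bot_iff_exists_ne_one).mp this
  have h2 : a ≠ 1 := fun h => h1 (Subtype.ext h)
  exact ⟨a, h2, (eq_bot_or_eq_of_le_of_card_prime hc (zpowers_le.mpr ha)).resolve_left
    (zpowers_ne_bot.mpr h2)⟩

theorem card_commutator_of_card {A : Subgroup G} (hAH : A ≤ H) (hA : IsBestOffenderOn p V A)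
    (hc : Nat.card A = p) : Nat.card ↥(⁅V, A⁆) = p := by
  have h1 := h.offMeasure_eq hAH hA
  obtain ⟨a, -, rfl⟩ := exists_zpowers_eq_of_card hc
  rw [← card_commutator_zpowers_mul h.ea.1 (h.norm (hAH (mem_zpowers a))), offMeasure, hc] at h1
  exact (Nat.eq_of_mul_eq_mul_right Nat.card_pos h1).symm

theorem minimal_of_card {A : Subgroup G} (hAH : A ≤ H) (hc : Nat.card A = p) :
    ⁅V, A⁆ ≠ ⊥ ∧ ∀ B : Subgroup G, B ≤ A → IsBestOffenderOn p V B → ⁅V, B⁆ ≠ ⊥ → B = A := by
  refine ⟨h.commutator_ne_bot hAH ?_, fun B hB _ hne =>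
    (eq_bot_or_eq_of_le_of_card_prime hc hB).resolve_left ?_⟩
  · rintro rfl
    exact hp.out.one_lt.ne (by simpa using hc)
  · rintro rfl
    exact hne (commutator_bot_right _)

theorem le_sSup_of_bestOffender {A : Subgroup G} (hAH : A ≤ H) (hA : IsBestOffenderOn p V A) :
    A ≤ sSup {B | B ≤ A ∧ IsBestOffenderOn p V B ∧ Nat.card B = p} := by
  induction A using WellFoundedLT.induction with
  | ind A ih =>
  by_cases h0 : A = ⊥
  · rw [h0]; exact bot_le
  obtain ⟨B, hB, hi, hBm, hAB⟩ := h.exists_hyperplane hAH hA le_rfl h0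
  by_cases h1 : B = ⊥
  · rw [h1, relIndex_bot_left] at hi
    exact le_sSup ⟨le_rfl, hA, hi⟩
  obtain ⟨C, hC, hi', hCm, hBC⟩ := h.exists_hyperplane hAH hA hB h1
  have key : ∀ D ≤ A, ¬ A ≤ D → offMeasure V D = offMeasure V A →
      D ≤ sSup {B | B ≤ A ∧ IsBestOffenderOn p V B ∧ Nat.card B = p} := fun D hD hAD hm =>
    (ih D (lt_of_le_not_ge hD hAD) (hD.trans hAH) (bestOffender_of_le hA hD hm)).trans
      (sSup_le_sSup fun X hX => ⟨hX.1.trans hD, hX.2⟩)
  refine le_trans ?_ (sup_le (key B hB hAB hBm) (key C hC (fun h => hBC (hB.trans h)) hCm))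
  have h2 := relIndex_mul_relIndex C (B ⊔ C) A le_sup_right (sup_le hB hC)
  rw [hi'] at h2
  rcases (Nat.dvd_prime hp.out).mp (Dvd.intro_left _ h2) with h3 | h3
  · exact relIndex_eq_one.mp h3
  · rw [h3] at h2
    have h4 : C.relIndex (B ⊔ C) = 1 :=
      Nat.eq_of_mul_eq_mul_right hp.out.pos (by rw [h2, one_mul])
    exact absurd (le_sup_left.trans (relIndex_eq_one.mp h4)) hBC

omit h in
theorem _root_.Cfsg.Lib.Quad.exists_iSupIndep_of_card {S : Set (Subgroup G)}
    (hS : ∀ B ∈ S, Nat.card B = p) : ∃ (k : ℕ) (B : Fin k → Subgroup G),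
      (∀ i, B i ∈ S) ∧ iSupIndep B ∧ ⨆ i, B i = sSup S := by
  obtain ⟨T, ⟨hT, hTS⟩, hmin⟩ := Set.Finite.exists_minimal
    (Set.toFinite {T : Set (Subgroup G) | T ⊆ S ∧ sSup T = sSup S}) ⟨S, le_rfl, rfl⟩
  have hind : sSupIndep T := by
    intro B hB
    rw [disjoint_iff]
    refine (eq_bot_or_eq_of_le_of_card_prime (hS B (hT hB)) inf_le_left).resolve_right fun h => ?_
    have h1 : sSup (T \ {B}) = sSup S := by
      rw [← hTS]
      refine le_antisymm (sSup_le_sSup Set.sdiff_subset) (sSup_le fun C hC => ?_)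
      by_cases h2 : C = B
      · exact h2.le.trans (h.ge.trans inf_le_right)
      · exact le_sSup ⟨hC, h2⟩
    exact (hmin ⟨Set.sdiff_subset.trans hT, h1⟩ Set.sdiff_subset hB).2 rfl
  let e := Finite.equivFin T
  refine ⟨_, fun i => e.symm i, fun i => hT (e.symm i).2,
    ((sSupIndep_iff T).mp hind).comp e.symm.injective, ?_⟩
  rw [← hTS, sSup_eq_iSup']
  exact e.symm.iSup_comp (g := fun B : T => (B : Subgroup G))

end FFSetup

end Cfsg.Lib.Quad
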