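import Cfsg.Agent.Lib.Quad.Transv
import Cfsg.Agent.Lib.Quad.FF

/-!
# Glauberman's structure theorem for failure of factorization in `p`-separable groups
-/

set_option autoImplicit false

namespace Cfsg.Lib.Quad
open Subgroup Cfsg.Lib
open scoped commutatorElement MatrixGroups

universe u

variable {G : Type u} [Group G] {p : ℕ}

/-- A best offender of order `p` inside `H`. -/
structure MinOff (p : ℕ) (V H A : Subgroup G) : Prop where
  le : A ≤ H
  off : IsBestOffenderOn p V A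
  card : Nat.card A = p

theorem not_comm_sylow_sl2_three (T : Sylow 2 SL(2, ZMod 3)) : ¬ IsMulCommutative T := by
  intro hT
  have := isPGroup_of_sl2_of_sylow_two_comm (p := 3) (by norm_num) (MonoidHom.id _)
    Function.injective_id (fun N hN => by
      rw [eq_top_iff, ← closure_upT_loT_zmod (p := 3) one_ne_zero one_ne_zero, closure_le]
      rintro _ (rfl | rfl)
      · exact hN _ ⟨1, by decide⟩
      · exact hN _ ⟨1, by decide⟩) T hT
  exact not_isPGroup_of_upT_loT (L := ⊤) one_ne_zero one_ne_zero trivial trivial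
    (this.to_subgroup ⊤)

theorem ConjModel.sub_le_sub_iff [Fact p.Prime] {V H : Subgroup G} {M : Type*} [AddCommGroup M]
    [Module (ZMod p) M] (m : ConjModel p V H M) {U U' : Submodule (ZMod p) M} :
    m.sub U ≤ m.sub U' ↔ U ≤ U' :=
  ⟨fun h _ hx => m.elt_mem_sub.mp (h (m.elt_mem_sub.mpr hx)), m.sub_mono⟩

namespace FFSetup
variable [Finite G] [hp : Fact p.Prime] {V H N A B : Subgroup G} (h : FFSetup p V H N)
include h

omit [Finite G] hp in
theorem ffE_le (hA : A ≤ H) : ⁅N, A⁆ ⊔ A ≤ H :=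
  sup_le ((commutator_mono h.le hA).trans (commutator_le_self H)) hA

omit [Finite G] hp in
theorem cop' : (Nat.card (N.subgroupOf H)).Coprime p := by
  rw [card_subgroupOf_of_le h.le]; exact h.cop

theorem exists_transv {M : Type*} [AddCommGroup M] [Module (ZMod p) M] (m : ConjModel p V H M)
    (hA : MinOff p V H A) : ∃ (a : H) (f : M →ₗ[ZMod p] ZMod p) (u : M), IsTransv m.rep a f u ∧
      zpowers (a : G) = A ∧ (⁅N, A⁆ ⊔ A).subgroupOf H = transvE (N.subgroupOf H) a ∧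
      ∃ n ∈ N.subgroupOf H, n * a ≠ a * n := by
  have := m.finite
  obtain ⟨a, ha1, rfl⟩ := exists_zpowers_eq_of_card hA.card
  have haH : a ∈ H := hA.le (mem_zpowers a)
  have h1 : (zpowers a).subgroupOf H = zpowers (⟨a, haH⟩ : H) := by
    apply map_injective H.subtype_injective
    rw [map_subgroupOf_eq_of_le hA.le, MonoidHom.map_zpowers]; rfl
  have hea := h.ea_of_bestOffender hA.le hA.off
  obtain ⟨f, u, ht⟩ := exists_isTransv (a := (⟨a, haH⟩ : H)) (m.rep_injective h.faith)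
    (fun e => ha1 (congrArg Subtype.val e)) (Subtype.ext (hea.2 a (mem_zpowers a)))
    (by rw [← h1, ← m.card_sub, m.sub_commSub hA.le, h.card_commutator_of_card hA.le hA.off hA.card])
  refine ⟨⟨a, haH⟩, f, u, ht, rfl, ?_, ?_⟩
  · rw [subgroupOf_sup ((commutator_mono h.le hA.le).trans (commutator_le_self H)) hA.le,
      ← commutator_subgroupOf h.le hA.le, h1]
  · by_contra hcon
    push Not at hcon
    refine ha1 (zpowers_eq_bot.mp (h.eq_bot_of_centralizes hA.le (ea_isPGroup hea) ?_))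
    rw [le_centralizer_iff, zpowers_le]
    exact fun n hn => congrArg Subtype.val (hcon ⟨n, h.le hn⟩ hn)

theorem plane (hA : MinOff p V H A) : (p = 2 ∨ p = 3) ∧
    Nonempty (↥(⁅N, A⁆ ⊔ A) ≃* SL(2, ZMod p)) ∧ Nat.card ↥(⁅V, ⁅N, A⁆ ⊔ A⁆) = p ^ 2 ∧
    ⁅V, ⁅N, A⁆ ⊔ A⁆ ⊓ (V ⊓ centralizer ((⁅N, A⁆ ⊔ A : Subgroup G) : Set G)) = ⊥ ∧
    ⁅V, ⁅N, A⁆ ⊔ A⁆ ⊔ (V ⊓ centralizer ((⁅N, A⁆ ⊔ A : Subgroup G) : Set G)) = V ∧
    ⁅V, ⁅N, A⁆ ⊔ A⁆ ≤ ⁅V, N⁆ ∧
    V ⊓ centralizer (N : Set G) ≤ centralizer ((⁅N, A⁆ ⊔ A : Subgroup G) : Set G) ∧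
    ∀ x ∈ N, x ∉ centralizer (A : Set G) →
      A ⊔ A.map (MulAut.conj x).toMonoidHom = ⁅N, A⁆ ⊔ A := by
  obtain ⟨M, _, _, ⟨m⟩⟩ := exists_conjModel h.ea h.norm
  obtain ⟨a, f, u, ht, hz, hE, n, hn, hna⟩ := h.exists_transv m hA
  have := normal_subgroupOf_of_le_normalizer h.normal
  have hρ := m.rep_injective h.faith
  obtain ⟨⟨P⟩, h23⟩ := ht.exists_plane hρ h.cop' hn hna
  have hle := h.ffE_le hA.le
  have hW := m.sub_commSub hle
  have hC := m.sub_fixSub hle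
  rw [hE] at hW hC
  refine ⟨h23, ⟨(subgroupOfEquivOfLe hle).symm.trans ((MulEquiv.subgroupCongr hE).trans P.iso)⟩,
    ?_, ?_, ?_, ?_, ?_, fun x hx hxA => ?_⟩
  · rw [← hW, m.card_sub, P.card_commSub, Nat.card_zmod]
  · rw [← hW, ← hC, ← m.sub_inf, P.compl.inf_eq_bot, m.sub_bot]
  · rw [← hW, ← hC, ← m.sub_sup, P.compl.sup_eq_top, m.sub_top]
  · rw [← hW, ← m.sub_commSub h.le]
    exact m.sub_mono (ht.commSub_le_commSub hρ P hn hna)
  · refine le_trans ?_ (hC.le.trans inf_le_right)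
    rw [← m.sub_fixSub h.le, ← ht.fixSub_inf hρ P hn hna]
    exact m.sub_mono (fixSub_anti inf_le_left)
  · have h1 := ht.transvE_eq hρ h.cop' (n := ⟨x, h.le hx⟩) hx (fun e => hxA (by
      rw [← hz, centralizer_zpowers, mem_centralizer_singleton_iff]
      exact congrArg Subtype.val e))
    rw [← map_subgroupOf_eq_of_le hle, hE, h1, MonoidHom.map_closure, Set.image_pair, ← hz,
      MonoidHom.map_zpowers, zpowers_eq_closure, zpowers_eq_closure, ← Subgroup.closure_union]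
    rfl

theorem dichotomy (hA : MinOff p V H A) (hB : MinOff p V H B) : ⁅N, A⁆ ⊔ A = ⁅N, B⁆ ⊔ B ∨
    ⁅V, ⁅N, A⁆ ⊔ A⁆ ≤ centralizer ((⁅N, B⁆ ⊔ B : Subgroup G) : Set G) := by
  obtain ⟨M, _, _, ⟨m⟩⟩ := exists_conjModel h.ea h.norm
  obtain ⟨a, f, u, ht, hz, hE, n, hn, hna⟩ := h.exists_transv m hA
  obtain ⟨b, g, w, ht', hz', hE', n', hn', hna'⟩ := h.exists_transv m hB
  have := normal_subgroupOf_of_le_normalizer h.normal
  have hρ := m.rep_injective h.faith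
  obtain ⟨⟨P⟩, -⟩ := ht.exists_plane hρ h.cop' hn hna
  obtain ⟨⟨Q⟩, -⟩ := ht'.exists_plane hρ h.cop' hn' hna'
  rcases ht.dichotomy hρ P hn hna ht' Q hn' hna' with h1 | h1
  · left
    rw [← map_subgroupOf_eq_of_le (h.ffE_le hA.le), hE, h1, ← hE',
      map_subgroupOf_eq_of_le (h.ffE_le hB.le)]
  · right
    rw [← m.sub_commSub (h.ffE_le hA.le), hE]
    refine (m.sub_mono h1).trans ?_
    rw [← hE', m.sub_fixSub (h.ffE_le hB.le)]
    exact inf_le_right

theorem faithful_plane (hA : MinOff p V H A) :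
    (⁅N, A⁆ ⊔ A) ⊓ centralizer ((⁅V, ⁅N, A⁆ ⊔ A⁆ : Subgroup G) : Set G) = ⊥ := by
  refine h.eq_bot_of_le_centralizer (inf_le_left.trans (h.ffE_le hA.le)) ?_
  conv_rhs => rw [← (h.plane hA).2.2.2.2.1]
  rw [centralizer_sup]
  exact inf_comm _ _ |>.le.trans (inf_le_inf_left _ (le_centralizer_iff.mp inf_le_right))

theorem card_commutator (hA : MinOff p V H A) :
    Nat.card ↥(⁅N, A⁆) * p = Nat.card SL(2, ZMod p) := by
  obtain ⟨e⟩ := (h.plane hA).2.1
  have h1 : ⁅N, A⁆ ⊓ A = ⊥ := by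
    rw [inf_comm]
    exact inf_eq_bot_of_isPGroup_of_coprime (ea_isPGroup (h.ea_of_bestOffender hA.le hA.off))
      (coprime_card_of_le (commutator_le_of_le_normalizer (hA.le.trans h.normal)) h.cop)
  rw [← Nat.card_congr e.toEquiv, ← mul_one (Nat.card ↥(⁅N, A⁆ ⊔ A)), ← card_bot (G := G), ← h1,
    card_sup_mul_card_inf' (normalizer_commutator_ge_right N A), hA.card]

theorem commutator_structure (hA : MinOff p V H A) : (p = 2 ∧ IsPGroup 3 ↥(⁅N, A⁆)) ∨
    (p = 3 ∧ IsPGroup 2 ↥(⁅N, A⁆) ∧ ¬ IsMulCommutative ↥(⁅N, A⁆)) := by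
  have h1 := h.card_commutator hA
  obtain ⟨h23, ⟨e⟩, -⟩ := h.plane hA
  rcases h23 with rfl | rfl
  · rw [card_sl2_zmod_two] at h1
    exact Or.inl ⟨rfl, IsPGroup.of_card (n := 1) (by omega)⟩
  · rw [card_sl2_zmod_three] at h1
    have h8 : Nat.card ↥(⁅N, A⁆) = 2 ^ 3 := by omega
    refine Or.inr ⟨rfl, IsPGroup.of_card h8, fun hc => ?_⟩
    let T : Sylow 2 SL(2, ZMod 3) := Sylow.ofCard
      (((⁅N, A⁆).subgroupOf (⁅N, A⁆ ⊔ A)).map e.toMonoidHom) (by
        rw [card_map_of_injective e.injective, card_subgroupOf_of_le le_sup_left, h8,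
          card_sl2_zmod_three]
        decide +kernel)
    exact not_comm_sylow_sl2_three T (inferInstance : IsMulCommutative
      (((⁅N, A⁆).subgroupOf (⁅N, A⁆ ⊔ A)).map e.toMonoidHom))

omit hp [Finite G] in
theorem commutator_eq_bot_of_le {E F : Subgroup G} (hE : E ≤ H) (hF : F ≤ H)
    (h1 : ⁅V, E⁆ ≤ centralizer (F : Set G)) (h2 : ⁅V, F⁆ ≤ centralizer (E : Set G)) :
    ⁅E, F⁆ = ⊥ := by
  refine h.eq_bot_of_le_centralizer ((commutator_mono hE hF).trans (commutator_le_self H))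
    (le_centralizer_of_commutator_eq_bot (commutator_commutator_eq_bot_of_rotate ?_ ?_))
  · rw [commutator_comm F]; exact commutator_eq_bot_iff_le_centralizer.mpr h2
  · exact commutator_eq_bot_iff_le_centralizer.mpr h1

omit h in
theorem _root_.Cfsg.Lib.Quad.FFSetup.le_iSup_minOff (h : FFSetup p V H N)
    (hS3 : H = ⨆ A : {A : Subgroup G // A ≤ H ∧ IsBestOffenderOn p V A}, (A : Subgroup G))
    {X : Subgroup G} (hX : ∀ B, MinOff p V H B → B ≤ X) : H ≤ X := by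
  rw [hS3]
  exact iSup_le fun A => (h.le_sSup_of_bestOffender A.2.1 A.2.2).trans
    (sSup_le fun B hB => hX B ⟨hB.1.trans A.2.1, hB.2.1, hB.2.2⟩)

theorem factor
    (hS3 : H = ⨆ A : {A : Subgroup G // A ≤ H ∧ IsBestOffenderOn p V A}, (A : Subgroup G))
    (hA : MinOff p V H A) :
    ⁅⁅N, A⁆ ⊔ A, H ⊓ centralizer ((⁅V, ⁅N, A⁆ ⊔ A⁆ : Subgroup G) : Set G)⁆ = ⊥ ∧
    (⁅N, A⁆ ⊔ A) ⊓ (H ⊓ centralizer ((⁅V, ⁅N, A⁆ ⊔ A⁆ : Subgroup G) : Set G)) = ⊥ ∧
    (⁅N, A⁆ ⊔ A) ⊔ (H ⊓ centralizer ((⁅V, ⁅N, A⁆ ⊔ A⁆ : Subgroup G) : Set G)) = H ∧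
    ⁅V, H ⊓ centralizer ((⁅V, ⁅N, A⁆ ⊔ A⁆ : Subgroup G) : Set G)⁆ ≤
      V ⊓ centralizer ((⁅N, A⁆ ⊔ A : Subgroup G) : Set G) := by
  set E := ⁅N, A⁆ ⊔ A with hE
  have hEH : E ≤ H := h.ffE_le hA.le
  set F := H ⊓ centralizer ((⁅V, E⁆ : Subgroup G) : Set G) with hF
  set F₀ := F ⊓ commInto V (V ⊓ centralizer (E : Set G)) with hF₀
  have hF0 : ⁅V, F₀⁆ ≤ V ⊓ centralizer (E : Set G) := by
    rw [commutator_comm]; exact (le_commInto_iff.mp inf_le_right).2
  have h1 : ⁅E, F₀⁆ = ⊥ := h.commutator_eq_bot_of_le hEH (inf_le_left.trans inf_le_left)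
    (le_centralizer_iff.mp (inf_le_left.trans inf_le_right)) (hF0.trans inf_le_right)
  have h2 : E ⊓ F = ⊥ := le_bot_iff.mp (h.faithful_plane hA ▸ inf_le_inf_left _ inf_le_right)
  have h3 : H ≤ F₀ ⊔ E := by
    refine h.le_iSup_minOff hS3 fun B hB => ?_
    rcases h.dichotomy hA hB with h4 | h4
    · exact le_sup_of_le_right (hE ▸ h4 ▸ le_sup_right)
    rcases h.dichotomy hB hA with h5 | h5
    · exact le_sup_of_le_right (hE ▸ h5 ▸ le_sup_right)
    have h6 : ⁅V, B⁆ ≤ V ⊓ centralizer (E : Set G) :=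
      le_inf (commutator_le_of_le_normalizer (hB.le.trans h.norm))
        ((commutator_mono le_rfl le_sup_right).trans h5)
    refine le_sup_of_le_left (le_inf (le_inf hB.le (le_sup_right.trans (le_centralizer_iff.mp h4)))
      (le_commInto_iff.mpr ⟨le_normalizer_of_commutator_le h6 inf_le_left, ?_⟩))
    rwa [commutator_comm]
  have h4 : F = F₀ := by
    refine le_antisymm ?_ inf_le_left
    have := sup_inf_assoc_of_le_normalizer (le_normalizer_of_commutator_eq_bot' h1)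
      (inf_le_left : F₀ ≤ F)
    rw [h2, sup_bot_eq] at this
    rw [← this]
    exact le_inf (inf_le_left.trans h3) le_rfl
  refine ⟨h4 ▸ h1, h2, le_antisymm (sup_le hEH inf_le_left) ?_, h4 ▸ hF0⟩
  rwa [h4, sup_comm]

theorem exists_minOff
    (hS3 : H = ⨆ A : {A : Subgroup G // A ≤ H ∧ IsBestOffenderOn p V A}, (A : Subgroup G))
    (hH : H ≠ ⊥) : ∃ A, MinOff p V H A := by
  by_contra hcon
  exact hH (le_bot_iff.mp (h.le_iSup_minOff hS3 fun B hB => absurd ⟨B, hB⟩ hcon))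

theorem le_normalizer_ffE
    (hS3 : H = ⨆ A : {A : Subgroup G // A ≤ H ∧ IsBestOffenderOn p V A}, (A : Subgroup G))
    (hA : MinOff p V H A) : H ≤ normalizer ((⁅N, A⁆ ⊔ A : Subgroup G) : Set G) := by
  obtain ⟨h1, -, h3, -⟩ := h.factor hS3 hA
  conv_lhs => rw [← h3]
  exact sup_le le_normalizer (le_normalizer_of_commutator_eq_bot' h1)

theorem minOff_iff : (A ≤ H ∧ IsBestOffenderOn p V A ∧ ⁅V, A⁆ ≠ ⊥ ∧
    (∀ B : Subgroup G, B ≤ A → IsBestOffenderOn p V B → ⁅V, B⁆ ≠ ⊥ → B = A)) ↔ MinOff p V H A :=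
  ⟨fun ⟨h1, h2, h3, h4⟩ => ⟨h1, h2, h.card_eq_of_minimal h1 h2 h3 h4⟩,
    fun hA => ⟨hA.le, hA.off, h.minimal_of_card hA.le hA.card⟩⟩

theorem commutator_inf_centralizer : ⁅V, N⁆ ⊓ centralizer (N : Set G) = ⊥ := by
  refine commutator_inf_centralizer_eq_bot_of_comm (h.le.trans h.norm) ?_ h.ea.1
  obtain ⟨n, hn⟩ := (ea_isPGroup h.ea).exists_card_eq
  rw [hn]
  exact h.cop.pow_right n

theorem commutator_sup_centralizer : ⁅V, N⁆ ⊔ (V ⊓ centralizer (N : Set G)) = V :=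
  (CoprimeAct.of_isPGroup_right (ea_isPGroup h.ea) h.not_dvd
    (h.le.trans h.norm)).commutator_sup_centralizer

/-- The full structure theorem, for any indexing of the factors. -/
theorem structure_thm
    (hS3 : H = ⨆ A : {A : Subgroup G // A ≤ H ∧ IsBestOffenderOn p V A}, (A : Subgroup G))
    {Q : Subgroup G → Prop} (hQ : ∀ E, Q E ↔ ∃ A, MinOff p V H A ∧ E = ⁅N, A⁆ ⊔ A) :
    iSupIndep (fun E : {E // Q E} => (E : Subgroup G)) ∧ (⨆ E : {E // Q E}, (E : Subgroup G)) = H ∧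
    iSupIndep (fun o : Option {E // Q E} =>
      o.elim (V ⊓ centralizer (H : Set G)) (fun E => ⁅V, (E : Subgroup G)⁆)) ∧
    (V ⊓ centralizer (H : Set G)) ⊔ (⨆ E : {E // Q E}, ⁅V, (E : Subgroup G)⁆) = V := by
  have hle : ∀ E : {E // Q E}, (E : Subgroup G) ≤ H := fun E => by
    obtain ⟨A, hA, e⟩ := (hQ _).mp E.2
    exact e ▸ h.ffE_le hA.le
  have hne : ∀ E E' : {E // Q E}, E' ≠ E →
      ⁅V, (E : Subgroup G)⁆ ≤ centralizer ((E' : Subgroup G) : Set G) := fun E E' hE => by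
    obtain ⟨A, hA, e⟩ := (hQ _).mp E.2
    obtain ⟨B, hB, e'⟩ := (hQ _).mp E'.2
    rw [e, e']
    exact (h.dichotomy hA hB).resolve_left fun h1 => hE (Subtype.ext (by rw [e, e', h1]))
  have htop : (⨆ E : {E // Q E}, (E : Subgroup G)) = H :=
    le_antisymm (iSup_le hle) (h.le_iSup_minOff hS3 fun B hB =>
      le_iSup_of_le ⟨_, (hQ _).mpr ⟨B, hB, rfl⟩⟩ le_sup_right)
  refine ⟨fun E => ?_, htop, ?_, ?_⟩
  · obtain ⟨A, hA, e⟩ := (hQ _).mp E.2
    have h1 := h.faithful_plane hA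
    rw [← e] at h1
    exact (disjoint_iff.mpr h1).mono_right (iSup₂_le fun E' hE => le_centralizer_iff.mp (hne E E' hE))
  · rintro (_ | E)
    · refine (disjoint_iff.mpr h.commutator_inf_centralizer).symm.mono
        (inf_le_right.trans (centralizer_mono h.le)) (iSup₂_le ?_)
      rintro (_ | E) hE
      · exact absurd rfl hE
      · obtain ⟨A, hA, e⟩ := (hQ _).mp E.2
        change ⁅V, (E : Subgroup G)⁆ ≤ _
        rw [e]
        exact (h.plane hA).2.2.2.2.2.1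
    · obtain ⟨A, hA, e⟩ := (hQ _).mp E.2
      have h1 := (h.plane hA).2.2.2.1
      rw [← e] at h1
      refine (disjoint_iff.mpr h1).mono_right (iSup₂_le ?_)
      rintro (_ | E') hE
      · exact inf_le_inf_left _ (centralizer_mono (hle E))
      · exact le_inf (commutator_le_of_le_normalizer ((hle E').trans h.norm))
          (hne E' E fun e => hE (by rw [e]))
  · have hV : (⨆ E : {E // Q E}, ⁅V, (E : Subgroup G)⁆) ≤ V :=
      iSup_le fun E => commutator_le_of_le_normalizer ((hle E).trans h.norm)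
    refine le_antisymm (sup_le inf_le_left hV) ?_
    conv_lhs => rw [← h.commutator_sup_centralizer, sup_comm]
    refine sup_le_sup (le_inf inf_le_left ?_) ((commutator_mono le_rfl h.le).trans ?_)
    · rw [le_centralizer_iff, ← htop]
      refine iSup_le fun E => ?_
      obtain ⟨A, hA, e⟩ := (hQ _).mp E.2
      rw [e]
      exact le_centralizer_iff.mp (h.plane hA).2.2.2.2.2.2.1
    · conv_lhs => rw [← htop]
      exact commutator_iSup_right_le (fun E => le_iSup (fun E : {E // Q E} => ⁅V, (E : Subgroup G)⁆) E)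
        fun E => le_normalizer_of_commutator_le
          (le_iSup (fun E : {E // Q E} => ⁅V, (E : Subgroup G)⁆) E) hV

end FFSetup

end Cfsg.Lib.Quad
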