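import Cfsg.Agent.Lib.Quad.FFStruct
import Cfsg.Agent.Lib.Quad.Factor

/-!
# Passing to the holomorph: faithful models of the action on a normal subgroup
-/

set_option autoImplicit false

namespace Cfsg.Lib.Quad
open Subgroup Cfsg.Lib
open scoped commutatorElement MatrixGroups

universe u

/-- A group `Γ` containing a copy of `V` and receiving `G`, with kernel `C_G(V)`. -/
structure Holo {G : Type*} [Group G] (V : Subgroup G) (Γ : Type*) [Group Γ] where
  /-- the embedding of `V` -/
  ι : V →* Γ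
  /-- the homomorphism from `G` -/
  θ : G →* Γ
  inj : Function.Injective ι
  conj : ∀ (g : G) (v w : V), g * v * g⁻¹ = w → θ g * ι v * (θ g)⁻¹ = ι w
  ker : θ.ker = centralizer (V : Set G)

theorem exists_holo {G : Type u} [Group G] [Finite G] (V : Subgroup G) [V.Normal] :
    ∃ (Γ : Type u) (_ : Group Γ) (_ : Finite Γ), Nonempty (Holo V Γ) := by
  refine ⟨V ⋊[MonoidHom.id _] MulAut V, inferInstance,
    Finite.of_equiv _ SemidirectProduct.equivProd.symm,
    ⟨⟨SemidirectProduct.inl, SemidirectProduct.inr.comp MulAut.conjNormal,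
      SemidirectProduct.inl_injective, fun g v w h => ?_, ?_⟩⟩⟩
  · rw [MonoidHom.comp_apply, ← map_inv, ← SemidirectProduct.inl_aut]
    congr 1
    exact Subtype.ext h
  · ext g
    rw [MonoidHom.mem_ker, MonoidHom.comp_apply,
      map_eq_one_iff _ SemidirectProduct.inr_injective, mem_centralizer_iff]
    constructor
    · intro h v hv
      have := congrArg (fun φ : MulAut V => (φ ⟨v, hv⟩ : G)) h
      exact (mul_inv_eq_iff_eq_mul.mp this).symm
    · intro h
      ext v
      exact mul_inv_eq_iff_eq_mul.mpr (h v v.2).symm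

namespace Holo
variable {G Γ : Type*} [Group G] [Group Γ] {p : ℕ}

/-- Restriction along an injective homomorphism. -/
noncomputable def comp {K : Type*} [Group K] (j : K →* G) (hj : Function.Injective j)
    {V : Subgroup K} (h : Holo (V.map j) Γ) : Holo V Γ where
  ι := h.ι.comp (V.equivMapOfInjective j hj).toMonoidHom
  θ := h.θ.comp j
  inj := h.inj.comp (V.equivMapOfInjective j hj).injective
  conj g v w e := h.conj _ _ _ (by simp [← e])
  ker := by
    rw [← MonoidHom.comap_ker, h.ker]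
    ext g
    simp only [mem_comap, mem_centralizer_iff]
    constructor
    · intro h v hv
      exact hj (by simpa using h _ ⟨v, hv, rfl⟩)
    · rintro h _ ⟨v, hv, rfl⟩
      rw [← map_mul, h v hv, map_mul]

variable {V : Subgroup G} [hV : V.Normal] (h : Holo V Γ)

theorem conj' (g : G) (v : V) :
    h.θ g * h.ι v * (h.θ g)⁻¹ = h.ι ⟨g * v * g⁻¹, hV.conj_mem _ v.2 g⟩ := h.conj _ _ _ rfl

theorem comm_iff (g : G) (v : V) : h.θ g * h.ι v = h.ι v * h.θ g ↔ g * v = v * g := by
  rw [← mul_inv_eq_iff_eq_mul, h.conj', h.inj.eq_iff, Subtype.ext_iff, mul_inv_eq_iff_eq_mul]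

theorem mem_normalizer (g : G) : h.θ g ∈ normalizer (h.ι.range : Set Γ) := by
  have : h.θ.range ≤ normalizer (h.ι.range : Set Γ) := by
    refine le_normalizer_iff.mpr ?_
    rintro _ ⟨g, rfl⟩ _ ⟨v, rfl⟩
    exact ⟨_, (h.conj' g v).symm⟩
  exact this ⟨g, rfl⟩

theorem map_le_normalizer (X : Subgroup G) : X.map h.θ ≤ normalizer (h.ι.range : Set Γ) := by
  rintro _ ⟨g, -, rfl⟩
  exact h.mem_normalizer g

theorem mem_centralizer_iff (g : G) :
    h.θ g ∈ centralizer (h.ι.range : Set Γ) ↔ g ∈ centralizer (V : Set G) := by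
  constructor
  · intro hg v hv
    exact ((h.comm_iff g ⟨v, hv⟩).mp (hg _ ⟨_, rfl⟩).symm).symm
  · rintro hg _ ⟨v, rfl⟩
    exact ((h.comm_iff g v).mpr (hg v v.2).symm).symm

theorem faithful (X : Subgroup G) : X.map h.θ ⊓ centralizer (h.ι.range : Set Γ) = ⊥ := by
  rw [eq_bot_iff]
  rintro _ ⟨⟨g, -, rfl⟩, hg⟩
  exact (h.ker.ge ((h.mem_centralizer_iff g).mp hg) : h.θ g = 1)

omit hV in
theorem ea (hea : IsElementaryAbelian p V) : IsElementaryAbelian p h.ι.range := by
  rw [MonoidHom.range_eq_map, ← subgroupOf_self]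
  exact ea_map _ (ea_subgroupOf hea V)

theorem inf_centralizer (B : Subgroup G) : h.ι.range ⊓ centralizer (B.map h.θ : Set Γ) =
    ((V ⊓ centralizer (B : Set G)).subgroupOf V).map h.ι := by
  apply le_antisymm
  · rintro _ ⟨⟨v, rfl⟩, hv⟩
    exact ⟨v, ⟨v.2, fun b hb => (h.comm_iff b v).mp (hv _ ⟨b, hb, rfl⟩)⟩, rfl⟩
  · rintro _ ⟨v, hv, rfl⟩
    refine ⟨⟨v, rfl⟩, ?_⟩
    rintro _ ⟨b, hb, rfl⟩
    exact (h.comm_iff b v).mpr (hv.2 b hb)

theorem offMeasure_map (B : Subgroup G) :
    offMeasure h.ι.range (B.map h.θ) * Nat.card ↥(centralizer (V : Set G) ⊓ B) = offMeasure V B := by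
  rw [offMeasure, offMeasure, h.inf_centralizer, card_map_of_injective h.inj,
    card_subgroupOf_of_le inf_le_left, ← relIndex_ker, h.ker,
    ← card_inf_mul_relIndex (centralizer (V : Set G)) B]
  ring

theorem bestOffender_map [Finite G] {A : Subgroup G} (hA : IsBestOffenderOn p V A) :
    IsBestOffenderOn p h.ι.range (A.map h.θ) := by
  refine ⟨fun B hB => ?_, ?_, ?_⟩
  · have h1 := map_comap_inf_eq_of_le_map h.θ hB
    have h2 := hA.1 _ (inf_le_right : B.comap h.θ ⊓ A ≤ A)
    change offMeasure _ _ ≤ offMeasure _ _ at h2 ⊢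
    have h3 : centralizer (V : Set G) ≤ B.comap h.θ := h.ker ▸ ker_le_comap h.θ B
    rw [← h.offMeasure_map, ← h.offMeasure_map, h1, ← inf_assoc, inf_eq_left.mpr h3] at h2
    exact Nat.le_of_mul_le_mul_right h2 Nat.card_pos
  · rw [← map_commutator]
    rintro _ ⟨g, hg, rfl⟩
    exact (h.mem_centralizer_iff g).mpr (hA.2.1 hg)
  · rintro _ ⟨a, ha, rfl⟩
    rw [← map_pow]
    exact (h.mem_centralizer_iff _).mpr (hA.2.2 a ha)

omit hV in
theorem pCore_map_eq_bot [Finite G] [Finite Γ] [(centralizer (V : Set G)).Normal]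
    (hO : pCore p (G ⧸ centralizer (V : Set G)) = ⊥) (J : Subgroup G) [J.Normal] :
    pCore p (J.map h.θ) = ⊥ := by
  have h1 : pCore p h.θ.range = ⊥ := (pCore_eq_bot_congr
    ((QuotientGroup.quotientMulEquivOfEq h.ker.symm).trans
      (QuotientGroup.quotientKerEquivRange h.θ))).mp hO
  have h2 := pCoreOf_le_pCoreOf_of_le_normalizer (p := p) (map_le_range h.θ J) (by
    rw [MonoidHom.range_eq_map]
    exact (map_mono le_normalizer_of_normal).trans (le_normalizer_map h.θ))
  rwa [h1, Subgroup.map_bot, le_bot_iff,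
    map_eq_bot_iff_of_injective _ (Subgroup.subtype_injective _)] at h2

variable [Finite G] [Finite Γ] [hp : Fact p.Prime]

theorem ffSetup (hea : IsElementaryAbelian p V) (hsep : IsPSolvable p G)
    (hO : pCore p (G ⧸ centralizer (V : Set G)) = ⊥) (J : Subgroup G) [J.Normal] :
    FFSetup p h.ι.range (J.map h.θ) ((pPrimeCore p (J.map h.θ)).map (J.map h.θ).subtype) :=
  FFSetup.of_pPrimeCore (h.ea hea) (h.map_le_normalizer J) (h.faithful J)
    (centralizer_pPrimeCore_le_of_isPSolvable (isPSolvable_of_surjective _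
      (h.θ.subgroupMap_surjective J) (isPSolvable_subgroup hsep J)) (h.pCore_map_eq_bot hO J))

omit [Finite Γ] hp in
theorem map_thompson_eq_iSup (hea : IsElementaryAbelian p V) :
    (thompsonSubgroup p G).map h.θ = ⨆ A : {A : Subgroup Γ // A ≤ (thompsonSubgroup p G).map h.θ ∧
      IsBestOffenderOn p h.ι.range A}, (A : Subgroup Γ) := by
  refine le_antisymm ?_ (iSup_le fun A => A.2.1)
  rw [map_le_iff_le_comap, ← thompsonOf_top, thompsonOf_le_iff]
  intro A hA
  rw [← map_le_iff_le_comap]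
  exact le_iSup_of_le ⟨_, map_mono (le_thompsonOf hA),
    h.bestOffender_map (bestOffender_of_mem_maxEAOf hea le_top hA)⟩ le_rfl

end Holo

variable {G : Type u} [Group G] [Finite G] {p : ℕ} [hp : Fact p.Prime]

theorem sup_inf_centralizer_mem_maxEAOf (hsep : IsPSolvable p G) {V : Subgroup G} [V.Normal]
    (hV : IsElementaryAbelian p V) (hO : pCore p (G ⧸ centralizer (V : Set G)) = ⊥) {A : Subgroup G}
    (hA : A ∈ maxEAOf p (⊤ : Subgroup G)) :
    V ⊔ (centralizer (V : Set G) ⊓ A) ∈ maxEAOf p (⊤ : Subgroup G) := by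
  obtain ⟨Γ, _, _, ⟨h⟩⟩ := exists_holo V
  have h1 := (h.ffSetup hV hsep hO (thompsonSubgroup p G)).offMeasure_eq
    (map_mono (thompsonOf_top (p := p) (G := G) ▸ le_thompsonOf hA))
    (h.bestOffender_map (bestOffender_of_mem_maxEAOf hV le_top hA))
  have h2 := h.offMeasure_map A
  rw [h1, Nat.card_congr (MonoidHom.ofInjective h.inj).symm.toEquiv, offMeasure,
    inf_centralizer_eq_inf_of_mem_maxEAOf hV le_top hA,
    ← card_sup_mul_card_inf' (le_normalizer_of_normal : _ ≤ normalizer (V : Set G)), ← inf_assoc,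
    inf_eq_left.mpr (ea_le_centralizer hV)] at h2
  exact mem_maxEAOf_of_card hA le_top (ea_sup hV (ea_mono hA.2.1 inf_le_right)
    (le_centralizer_iff.mp inf_le_left)) (Nat.eq_of_mul_eq_mul_right Nat.card_pos h2).ge

theorem commutator_omegaOne_centerThompson_le (hsep : IsPSolvable p G) {V : Subgroup G} [V.Normal]
    (hV : IsElementaryAbelian p V) (hO : pCore p (G ⧸ centralizer (V : Set G)) = ⊥) :
    ⁅omegaOne p (centerThompsonOf p (centralizer (V : Set G))), thompsonSubgroup p G⁆ ≤ V := by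
  rw [commutator_comm]
  refine (le_commInto_iff.mp ?_).2
  rw [← thompsonOf_top, thompsonOf_le_iff]
  intro A hA
  have h1 := mem_maxEAOf_of_le (sup_inf_centralizer_mem_maxEAOf hsep hV hO hA)
    (sup_le (ea_le_centralizer hV) inf_le_left) le_top
  have h2 : omegaOne p (centerThompsonOf p (centralizer (V : Set G))) ≤
      V ⊔ (centralizer (V : Set G) ⊓ A) :=
    le_of_mem_maxEAOf_of_le_centralizer h1 (ea_omegaOne_center _)
      ((omegaOne_le _).trans (inf_le_left.trans (thompsonOf_le _)))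
      ((omegaOne_le _).trans (inf_le_right.trans (centralizer_mono (le_thompsonOf h1))))
  refine le_commInto_iff.mpr ⟨le_normalizer_of_normal, (commutator_mono le_rfl h2).trans
    (commutator_sup_right_le (commutator_le_right _ _) ?_ le_normalizer_of_normal
      le_normalizer_of_normal)⟩
  rw [commutator_eq_bot_iff'.mpr (inf_le_right.trans (ea_le_centralizer hA.2.1))]
  exact bot_le

theorem exists_sl2_of_not_thompson_le (hsep : IsPSolvable p G) {V : Subgroup G} [V.Normal]
    (hV : IsElementaryAbelian p V) (hO : pCore p (G ⧸ centralizer (V : Set G)) = ⊥)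
    (hJ : ¬ thompsonSubgroup p G ≤ centralizer (V : Set G)) :
    (p = 2 ∨ p = 3) ∧ ∃ E : Subgroup G, centralizer (V : Set G) ≤ E ∧
      E ≤ thompsonSubgroup p G ⊔ centralizer (V : Set G) ∧
      thompsonSubgroup p G ⊔ centralizer (V : Set G) ≤ normalizer (E : Set G) ∧
      Nonempty ((E ⧸ (centralizer (V : Set G)).subgroupOf E) ≃* SL(2, ZMod p)) := by
  obtain ⟨Γ, _, _, ⟨h⟩⟩ := exists_holo V
  have hf := h.ffSetup hV hsep hO (thompsonSubgroup p G)
  have hS3 := h.map_thompson_eq_iSup hV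
  obtain ⟨A, hA⟩ := hf.exists_minOff hS3 (by rwa [Ne, Subgroup.map_eq_bot_iff, h.ker])
  obtain ⟨h1, ⟨e⟩, -⟩ := hf.plane hA
  have h2 := hf.le_normalizer_ffE hS3 hA
  have h3 := hf.ffE_le hA.le
  generalize ⁅(pPrimeCore p ((thompsonSubgroup p G).map h.θ)).map (Subgroup.subtype _), A⁆ ⊔ A = E
    at e h2 h3
  have h4 : ((thompsonSubgroup p G).map h.θ).comap h.θ =
      thompsonSubgroup p G ⊔ centralizer (V : Set G) := by rw [comap_map_eq, h.ker]
  refine ⟨h1, E.comap h.θ, h.ker ▸ ker_le_comap _ _, h4 ▸ comap_mono h3,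
    h4 ▸ (comap_mono h2).trans (le_normalizer_comap h.θ), ⟨?_⟩⟩
  have h5 : Function.Surjective (h.θ.subgroupComap E) := fun y => by
    obtain ⟨x, -, hx⟩ := h3 y.2
    exact ⟨⟨x, by rw [mem_comap, hx]; exact y.2⟩, Subtype.ext hx⟩
  refine (QuotientGroup.quotientMulEquivOfEq ?_).trans
    ((QuotientGroup.quotientKerEquivOfSurjective _ h5).trans e)
  ext x
  rw [mem_subgroupOf, ← h.ker, MonoidHom.mem_ker, MonoidHom.mem_ker, Subtype.ext_iff]
  rfl

end Cfsg.Lib.Quad
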