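import Mathlib

/-!
Module-theoretic part of the Klinger–Mason argument.
-/

set_option autoImplicit false

namespace Cfsg.Lib.Quad.KM

variable {H V : Type*} [Group H] [AddCommGroup V] [DistribMulAction H V]

/-- power of an element of order `3` by a residue -/
def cp (c : H) (i : ZMod 3) : H := c ^ i.val

theorem cp_zero (c : H) : cp c 0 = 1 := by simp [cp]

theorem cp_one (c : H) : cp c 1 = c := by
  show c ^ 1 = c
  simp

theorem cp_two (c : H) : cp c 2 = c * c := by
  show c ^ 2 = c * c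
  rw [sq]

theorem cp_add {c : H} (hc : c ^ 3 = 1) (i j : ZMod 3) : cp c (i + j) = cp c i * cp c j := by
  rw [cp, cp, cp, ← pow_add, ZMod.val_add]
  conv_rhs => rw [← Nat.mod_add_div (i.val + j.val) 3, pow_add, pow_mul, hc, one_pow, mul_one]

theorem cp_neg {c : H} (hc : c ^ 3 = 1) (i : ZMod 3) : cp c (-i) = (cp c i)⁻¹ := by
  rw [eq_inv_iff_mul_eq_one, ← cp_add hc, neg_add_cancel, cp_zero]

theorem commute_cp {g c : H} (h : Commute g c) (i : ZMod 3) : Commute g (cp c i) := h.pow_right _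

theorem zmod3_cases (i : ZMod 3) : i = 0 ∨ i = 1 ∨ i = 2 := by revert i; decide

/-- joint eigenvectors -/
def Eig (c x y : H) (i j : ZMod 3) (v : V) : Prop :=
  (cp c i * x) • v = v ∧ (cp c j * y) • v = v

theorem smul_fix_of_conj {g g' s : H} {v : V} (hv : g • v = v) (h : s * g * s⁻¹ = g') :
    g' • s • v = s • v := by
  rw [← h, ← mul_smul, inv_mul_cancel_right, mul_smul, hv]

theorem smul_fix_of_conj_inv {g g' s : H} {v : V} (hv : g • v = v) (h : s * g * s⁻¹ = g'⁻¹) :
    g' • s • v = s • v := by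
  have := smul_fix_of_conj hv h
  rw [inv_smul_eq_iff] at this
  exact this.symm

theorem conj_cp_inv {s c x : H} (hc : c ^ 3 = 1) (hcx : Commute c x) (hs : Commute s c)
    (hx : s * x * s⁻¹ = x⁻¹) (i : ZMod 3) :
    s * (cp c i * x) * s⁻¹ = (cp c (-i) * x)⁻¹ := by
  rw [cp_neg hc, mul_inv_rev, inv_inv, ← mul_assoc, (commute_cp hs i).eq, mul_assoc, mul_assoc,
    ← mul_assoc s, hx, (commute_cp hcx.symm i).inv_left.eq]

theorem conj_cp_same {s c x : H} (hs : Commute s c) (hx : Commute s x) (i : ZMod 3) :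
    s * (cp c i * x) * s⁻¹ = cp c i * x := by
  rw [((commute_cp hs i).mul_right hx).eq, mul_inv_cancel_right]

theorem decomp {c x : H} (two : ∀ v : V, v + v = 0) (hc : c ^ 3 = 1) (hx : x ^ 3 = 1)
    (hcx : Commute c x) (U : AddSubgroup V) (cU : ∀ v ∈ U, c • v ∈ U) (xU : ∀ v ∈ U, x • v ∈ U)
    (fpf : ∀ v ∈ U, c • c • v + c • v + v = 0) {v : V} (hv : v ∈ U) :
    ∃ f : ZMod 3 → V, (∀ i, f i ∈ U ∧ (cp c i * x) • f i = f i ∧
      f i = v + (cp c i * x) • v + (cp c i * x) • (cp c i * x) • v) ∧ v = f 0 + f 1 + f 2 := by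
  have cpU : ∀ i, ∀ v ∈ U, (cp c i * x) • v ∈ U := by
    intro i v hv
    rw [mul_smul]
    rcases zmod3_cases i with rfl | rfl | rfl
    · rw [cp_zero, one_smul]; exact xU v hv
    · rw [cp_one]; exact cU _ (xU v hv)
    · rw [cp_two, mul_smul]; exact cU _ (cU _ (xU v hv))
  refine ⟨fun i => v + (cp c i * x) • v + (cp c i * x) • (cp c i * x) • v, fun i =>
    ⟨add_mem (add_mem hv (cpU i v hv)) (cpU i _ (cpU i v hv)), ?_, rfl⟩, ?_⟩
  · have h3 : (cp c i * x) * ((cp c i * x) * (cp c i * x)) = 1 := by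
      rw [← pow_three, (commute_cp hcx.symm i).symm.mul_pow, hx, cp, ← pow_mul, mul_comm i.val,
        pow_mul, hc, one_pow, one_mul]
    simp only [smul_add]
    generalize cp c i * x = z at h3
    rw [← mul_smul z z (z • v), ← mul_smul (z * z) z v, mul_assoc, h3, one_smul]
    abel
  · simp only [cp_zero, cp_one, cp_two, one_mul, mul_smul]
    have e1 := fpf _ (xU v hv)
    have e2 := fpf _ (xU _ (xU v hv))
    have hxc : ∀ w : V, x • c • w = c • x • w := fun w => by
      rw [← mul_smul, ← hcx.eq, mul_smul]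
    have hc3 : ∀ w : V, c • c • c • w = w := fun w => by
      rw [← mul_smul, ← mul_smul, ← pow_three', hc, one_smul]
    simp only [hxc, hc3]
    linear_combination (norm := abel) - e1 - e2 - two v

/-- The data of the Klinger–Mason configuration acting on a module. -/
structure Setup (U : AddSubgroup V) (c x y t h k : H) : Prop where
  two : ∀ v : V, v + v = 0
  c3 : c ^ 3 = 1
  x3 : x ^ 3 = 1
  y3 : y ^ 3 = 1
  cx : Commute c x
  cy : Commute c y
  xy : Commute x y
  tc : Commute t c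
  hc : Commute h c
  kc : Commute k c
  tx : t * x * t⁻¹ = x⁻¹
  ty : t * y * t⁻¹ = y⁻¹
  hx : h * x * h⁻¹ = x⁻¹
  hy : Commute h y
  ky : k * y * k⁻¹ = y⁻¹
  kx : Commute k x
  t2 : t * t = 1
  h2 : h * h = 1
  k2 : k * k = 1
  cU : ∀ v ∈ U, c • v ∈ U
  xU : ∀ v ∈ U, x • v ∈ U
  yU : ∀ v ∈ U, y • v ∈ U
  hU : ∀ v ∈ U, h • v ∈ U
  kU : ∀ v ∈ U, k • v ∈ U
  fpf : ∀ v ∈ U, c • c • v + c • v + v = 0
  small : ∀ i j, ∀ v ∈ U, ∀ w ∈ U, Eig c x y i j v → Eig c x y i j w → v ≠ 0 →
    w = 0 ∨ w = v ∨ w = c • v ∨ w = c • c • v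
  hD : (∀ v ∈ U, h • v = v) → ∀ v ∈ U, t • v = v
  kD : (∀ v ∈ U, k • v = v) → ∀ v ∈ U, t • v = v

namespace Setup

variable {U : AddSubgroup V} {c x y t h k : H}

theorem eq_zero_of_fix (S : Setup U c x y t h k) {v : V} (hv : v ∈ U) (h1 : c • v = v) :
    v = 0 := by
  have := S.fpf v hv
  rw [h1, h1, S.two, zero_add] at this
  exact this

theorem eq_zero_of_fix2 (S : Setup U c x y t h k) {v : V} (hv : v ∈ U) (h1 : c • c • v = v) :
    v = 0 := by
  apply S.eq_zero_of_fix hv
  conv_lhs => rw [← h1]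
  rw [← mul_smul, ← mul_smul, ← pow_three', S.c3, one_smul]

theorem induction (S : Setup U c x y t h k) (P : V → Prop) (hadd : ∀ v w, P v → P w → P (v + w))
    (hP : ∀ i j, ∀ v ∈ U, Eig c x y i j v → P v) : ∀ v ∈ U, P v := by
  intro v hv
  obtain ⟨f, hf, e⟩ := decomp S.two S.c3 S.y3 S.cy U S.cU S.yU S.fpf hv
  have key : ∀ j, P (f j) := by
    intro j
    obtain ⟨g, hg, e'⟩ := decomp S.two S.c3 S.x3 S.cx U S.cU S.xU S.fpf (hf j).1
    have key' : ∀ i, P (g i) := by
      intro i
      refine hP i j _ (hg i).1 ⟨(hg i).2.1, ?_⟩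
      have hc : Commute (cp c j * y) (cp c i * x) :=
        ((commute_cp (commute_cp (Commute.refl c) j).symm i).mul_right
          (commute_cp S.cx.symm j).symm).mul_left ((commute_cp S.cy.symm i).mul_right S.xy.symm)
      have hs : ∀ w : V, (cp c j * y) • (cp c i * x) • w = (cp c i * x) • (cp c j * y) • w :=
        fun w => by rw [← mul_smul, hc.eq, mul_smul]
      rw [(hg i).2.2, smul_add, smul_add, hs, hs, hs, (hf j).2.1]
    rw [e']
    exact hadd _ _ (hadd _ _ (key' 0) (key' 1)) (key' 2)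
  rw [e]
  exact hadd _ _ (hadd _ _ (key 0) (key 1)) (key 2)

theorem fix_of_eig (S : Setup U c x y t h k) {s : H} (hs : Commute s c) (h2 : s * s = 1)
    {i j : ZMod 3} {v : V} (hv : v ∈ U) (hsv : s • v ∈ U) (e : Eig c x y i j v)
    (e' : Eig c x y i j (s • v)) : s • v = v := by
  by_cases h0 : v = 0
  · rw [h0, smul_zero]
  have hss : s • s • v = v := by rw [← mul_smul, h2, one_smul]
  have hsc : ∀ w : V, s • c • w = c • s • w := fun w => by rw [← mul_smul, hs.eq, mul_smul]
  rcases S.small i j v hv _ hsv e e' h0 with h1 | h1 | h1 | h1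
  · exact absurd ((smul_eq_zero_iff_eq s).mp h1) h0
  · exact h1
  · rw [h1, hsc, h1] at hss
    exact absurd (S.eq_zero_of_fix2 hv hss) h0
  · rw [h1, hsc, hsc, h1, ← mul_smul c c (c • c • v), ← mul_smul (c * c) c, ← pow_three', S.c3,
      one_smul] at hss
    exact absurd (S.eq_zero_of_fix hv hss) h0

theorem eig_h (S : Setup U c x y t h k) {i j : ZMod 3} {v : V} (e : Eig c x y i j v) :
    Eig c x y (-i) j (h • v) :=
  ⟨smul_fix_of_conj_inv e.1 (conj_cp_inv S.c3 S.cx S.hc S.hx i),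
    smul_fix_of_conj e.2 (conj_cp_same S.hc S.hy j)⟩

theorem eig_k (S : Setup U c x y t h k) {i j : ZMod 3} {v : V} (e : Eig c x y i j v) :
    Eig c x y i (-j) (k • v) :=
  ⟨smul_fix_of_conj e.1 (conj_cp_same S.kc S.kx i),
    smul_fix_of_conj_inv e.2 (conj_cp_inv S.c3 S.cy S.kc S.ky j)⟩

theorem eig_t (S : Setup U c x y t h k) {i j : ZMod 3} {v : V} (e : Eig c x y i j v) :
    Eig c x y (-i) (-j) (t • v) :=
  ⟨smul_fix_of_conj_inv e.1 (conj_cp_inv S.c3 S.cx S.tc S.tx i),
    smul_fix_of_conj_inv e.2 (conj_cp_inv S.c3 S.cy S.tc S.ty j)⟩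

theorem eig_c (S : Setup U c x y t h k) {i j : ZMod 3} {v : V} (e : Eig c x y i j v) :
    Eig c x y i j (c • v) :=
  ⟨smul_fix_of_conj e.1 (conj_cp_same (Commute.refl c) S.cx i),
    smul_fix_of_conj e.2 (conj_cp_same (Commute.refl c) S.cy j)⟩

theorem exists_two_weights (S : Setup U c x y t h k) (hne : ∃ v ∈ U, t • v ≠ v) :
    ∃ (i j i' j' : ZMod 3) (v w : V), v ∈ U ∧ w ∈ U ∧ v ≠ 0 ∧ w ≠ 0 ∧ Eig c x y i j v ∧
      Eig c x y i' j' w ∧ i * j' ≠ i' * j := by
  obtain ⟨v0, hv0, hne⟩ := hne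
  obtain ⟨i, j, v, hv, hv1, e, hj⟩ : ∃ (i j : ZMod 3) (v : V), v ∈ U ∧ v ≠ 0 ∧
      Eig c x y i j v ∧ j ≠ 0 := by
    by_contra hc
    push Not at hc
    refine hne (S.kD (S.induction (fun v => k • v = v)
      (fun v w h1 h2 => by rw [smul_add, h1, h2]) fun i j v hv e => ?_) v0 hv0)
    by_cases h0 : v = 0
    · rw [h0, smul_zero]
    obtain rfl := hc i j v hv h0 e
    exact S.fix_of_eig S.kc S.k2 hv (S.kU v hv) e (by simpa using S.eig_k e)
  obtain ⟨i', j', w, hw, hw1, e', hi'⟩ : ∃ (i j : ZMod 3) (v : V), v ∈ U ∧ v ≠ 0 ∧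
      Eig c x y i j v ∧ i ≠ 0 := by
    by_contra hc
    push Not at hc
    refine hne (S.hD (S.induction (fun v => h • v = v)
      (fun v w h1 h2 => by rw [smul_add, h1, h2]) fun i j v hv e => ?_) v0 hv0)
    by_cases h0 : v = 0
    · rw [h0, smul_zero]
    obtain rfl := hc i j v hv h0 e
    exact S.fix_of_eig S.hc S.h2 hv (S.hU v hv) e (by simpa using S.eig_h e)
  by_cases hi : i = 0
  · refine ⟨i, j, i', j', v, w, hv, hw, hv1, hw1, e, e', ?_⟩
    subst hi
    revert hj hi'
    generalize j = j, i' = i', j' = j'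
    revert j i' j'; decide
  · refine ⟨i, j, -i, j, v, h • v, hv, S.hU v hv, hv1,
      fun h0 => hv1 ((smul_eq_zero_iff_eq h).mp h0), e, S.eig_h e, ?_⟩
    revert hj hi
    generalize j = j, i = i
    revert j i; decide

theorem eq_of_eig (S : Setup U c x y t h k) {i j i' j' : ZMod 3} {v : V} (hv : v ∈ U)
    (h0 : v ≠ 0) (e : Eig c x y i j v) (e' : Eig c x y i' j' v) : i = i' ∧ j = j' := by
  have key : ∀ (z : H) (a b : ZMod 3), (cp c a * z) • v = v → (cp c b * z) • v = v → a = b := by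
    intro z a b h1 h2
    have h3 : cp c (a - b) • v = v := by
      rw [sub_eq_add_neg, cp_add S.c3, cp_neg S.c3]
      conv_lhs => rw [← h2]
      rw [← mul_smul, ← mul_assoc, inv_mul_cancel_right, h1]
    rw [← sub_eq_zero]
    rcases zmod3_cases (a - b) with h4 | h4 | h4
    · exact h4
    · rw [h4, cp_one] at h3; exact absurd (S.eq_zero_of_fix hv h3) h0
    · rw [h4, cp_two, mul_smul] at h3; exact absurd (S.eq_zero_of_fix2 hv h3) h0
  exact ⟨key x i i' e.1 e'.1, key y j j' e.2 e'.2⟩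

/-- The final contradiction in rank three. -/
theorem false_of_sl2 [Finite V] (S : Setup (⊤ : AddSubgroup V) c x y t h k)
    (hne : ∃ v : V, t • v ≠ v) {g : H} (hg : g * c * g⁻¹ * c⁻¹ * (g * c * g⁻¹ * c⁻¹) = t) :
    False := by
  classical
  obtain ⟨i, j, i', j', v, w, -, -, hv0, hw0, ev, ew, hdet⟩ :=
    S.exists_two_weights (by simpa using hne)
  set a := g * c * g⁻¹ * c⁻¹ with ha
  have two := S.two
  have hc3 : ∀ w : V, c • c • c • w = w := fun w => by
    rw [← mul_smul, ← mul_smul, ← pow_three', S.c3, one_smul]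
  have f1 : ∀ v : V, c • c • v + c • v + v = 0 := fun v => S.fpf v trivial
  have f2 : ∀ v : V, a • c • a • c • v + a • c • v + v = 0 := by
    intro v
    have e : ∀ w : V, a • c • w = g • c • g⁻¹ • w := fun w => by
      rw [← mul_smul, ha, inv_mul_cancel_right, mul_smul, mul_smul]
    have := congrArg (g • ·) (f1 (g⁻¹ • v))
    simp only [smul_add, smul_inv_smul, smul_zero] at this
    rw [e, e, inv_smul_smul]
    exact this
  have haa : ∀ v : V, a • a • v = t • v := fun v => by rw [← mul_smul, hg]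
  have htt : ∀ v : V, t • t • v = v := fun v => by rw [← mul_smul, S.t2, one_smul]
  have htc : ∀ v : V, t • c • v = c • t • v := fun v => by rw [← mul_smul, S.tc.eq, mul_smul]
  have hat : ∀ v : V, a • t • v = t • a • v := fun v => by rw [← haa, ← haa]
  have f3 : ∀ v : V, a • c • a • v = a • v + c • v + v := by
    intro v
    have e1 := f2 (c • c • v)
    rw [hc3] at e1
    linear_combination (norm := abel) e1 - f1 v - two (a • v) + two (c • v) + two v - two (c • v) - two v
  have f4 : ∀ v : V, t • a • v + t • v + a • v + v = 0 := by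
    intro v
    have e1 := congrArg (a • ·) (f3 (a • v))
    simp only [smul_add] at e1
    rw [haa, haa, htc, htt, hat, f3 v] at e1
    linear_combination (norm := abel) - e1
  -- `τ = t + 1`
  let τ : V →+ V := DistribSMul.toAddMonoidHom V t + AddMonoidHom.id V
  have hτ : ∀ v, τ v = t • v + v := fun v => rfl
  let n : V →+ V := DistribSMul.toAddMonoidHom V a + AddMonoidHom.id V
  have hn : ∀ v, n v = a • v + v := fun v => rfl
  have hτn : ∀ v, τ (n v) = 0 := fun v => by
    rw [hτ, hn, smul_add]; linear_combination (norm := abel) f4 v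
  have hnn : ∀ v, n (n v) = τ v := fun v => by
    rw [hτ, hn, hn, smul_add, haa]; linear_combination (norm := abel) two (a • v)
  -- kernel of `τ`
  have hker : ∀ z : H, z ^ 3 = 1 → t * z * t⁻¹ = z⁻¹ → ∀ v : V, t • v = v →
      t • (v + z • v + z • z • v) = v + z • v + z • z • v ∧
      v + (v + z • v + z • z • v) ∈ τ.range := by
    intro z hz hinv v hv
    have e1 : t • z • v = z • z • v := by
      have : t * z = z * z * t := by
        rw [← mul_inv_eq_iff_eq_mul, hinv, inv_eq_iff_mul_eq_one, ← mul_assoc, ← pow_three', hz]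
      rw [← mul_smul, this, mul_smul, mul_smul, hv]
    have e2 : t • z • z • v = z • v := by rw [← e1, htt]
    refine ⟨by rw [smul_add, smul_add, hv, e1, e2]; abel, z • v, ?_⟩
    rw [hτ, e1]; linear_combination (norm := abel) - two v
  have hfix : ∀ z : H, z ^ 3 = 1 → ∀ v : V,
      z • (v + z • v + z • z • v) = v + z • v + z • z • v := by
    intro z hz v
    rw [smul_add, smul_add, ← mul_smul z z (z • v), ← mul_smul (z * z) z v, ← pow_three', hz,
      one_smul]
    abel
  have hker2 : ∀ v : V, τ v = 0 → ∃ z : V, Eig c x y 0 0 z ∧ v + z ∈ τ.range := by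
    intro v hv
    have hv' : t • v = v := by rw [hτ] at hv; linear_combination (norm := abel) hv - two v
    obtain ⟨a1, a2⟩ := hker x S.x3 S.tx v hv'
    have a3 := hfix x S.x3 v
    generalize v + x • v + x • x • v = u at a1 a2 a3
    obtain ⟨b1, b2⟩ := hker y S.y3 S.ty _ a1
    refine ⟨u + y • u + y • y • u, ⟨?_, ?_⟩, ?_⟩
    · rw [cp_zero, one_mul]
      have hxy : ∀ w : V, x • y • w = y • x • w := fun w => by rw [← mul_smul, S.xy.eq, mul_smul]
      rw [smul_add, smul_add, hxy, hxy, hxy, a3]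
    · rw [cp_zero, one_mul, hfix y S.y3]
    · have : v + (u + y • u + y • y • u) = v + u + (u + (u + y • u + y • y • u)) := by
        linear_combination (norm := abel) - two u
      rw [this]; exact add_mem a2 b2
  obtain ⟨z0, hz0⟩ : ∃ z0 : V, ∀ z, Eig c x y 0 0 z →
      z = 0 ∨ z = z0 ∨ z = c • z0 ∨ z = c • c • z0 := by
    by_cases hex : ∃ z0 : V, Eig c x y 0 0 z0 ∧ z0 ≠ 0
    · obtain ⟨z0, e, h0⟩ := hex
      exact ⟨z0, fun z hz => S.small 0 0 z0 trivial z trivial e hz h0⟩
    · push Not at hex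
      exact ⟨0, fun z hz => Or.inl (hex z hz)⟩
  let ψ : V →+ V ⧸ τ.range := (QuotientAddGroup.mk' τ.range).comp n
  have hψ : Nat.card ψ.range ≤ 4 := by
    have h1 : (ψ.range : Set (V ⧸ τ.range)) ⊆
        (({0, (z0 : V ⧸ τ.range), ((c • z0 : V) : V ⧸ τ.range),
          ((c • c • z0 : V) : V ⧸ τ.range)} : Finset (V ⧸ τ.range)) : Set _) := by
      rintro _ ⟨v, rfl⟩
      obtain ⟨z, ez, hz⟩ := hker2 _ (hτn v)
      have h2 : ψ v = (z : V ⧸ τ.range) := by
        show ((n v : V) : V ⧸ τ.range) = z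
        rw [QuotientAddGroup.eq]
        have : -n v + z = n v + z := by linear_combination (norm := abel) - two (n v)
        rwa [this]
      rw [h2]
      rcases hz0 z ez with rfl | rfl | rfl | rfl <;> simp
    have h3 := Set.ncard_le_ncard h1 (Finset.finite_toSet _)
    rw [Set.ncard_coe_finset] at h3
    exact h3.trans Finset.card_le_four
  have hkk : ψ.ker ≤ τ.ker := by
    intro v hv
    have : n v ∈ τ.range := (QuotientAddGroup.eq_zero_iff _).mp hv
    obtain ⟨v', hv'⟩ := this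
    rw [AddMonoidHom.mem_ker, ← hnn, ← hv', ← hnn, hnn (n v'), hτn]
  have hτ4 : Nat.card τ.range ≤ 4 := by
    rw [← AddSubgroup.index_ker] at hψ ⊢
    exact (Nat.le_of_dvd (Nat.pos_of_ne_zero AddSubgroup.index_ne_zero_of_finite)
      (AddSubgroup.index_dvd_of_le hkk)).trans hψ
  -- five distinct elements in the range of `τ`
  have hij : ¬ (i = 0 ∧ j = 0) := by
    rintro ⟨rfl, rfl⟩; exact hdet (by simp)
  have hij' : ¬ (i' = 0 ∧ j' = 0) := by
    rintro ⟨rfl, rfl⟩; exact hdet (by simp)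
  have hτ0 : ∀ {i j : ZMod 3} {v : V}, Eig c x y i j v → ¬ (i = 0 ∧ j = 0) → v ≠ 0 → τ v ≠ 0 := by
    intro i j v e hij h0 h1
    have hv' : t • v = v := by rw [hτ] at h1; linear_combination (norm := abel) h1 - two v
    have := S.eq_of_eig trivial h0 e (hv' ▸ S.eig_t e)
    apply hij
    revert this
    generalize i = i, j = j
    revert i j; decide
  have hτc : ∀ v, τ (c • v) = c • τ v := fun v => by rw [hτ, hτ, smul_add, htc]
  have hv1 := hτ0 ev hij hv0
  have hw1 := hτ0 ew hij' hw0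
  obtain ⟨v', ev', e⟩ : ∃ v' : V, Eig c x y i j v' ∧ τ w = τ v' := by
    by_contra hc
    push Not at hc
    have d1 := hc v ev
    have d2 := hc _ (S.eig_c ev)
    have d3 := hc _ (S.eig_c (S.eig_c ev))
    rw [hτc] at d2
    rw [hτc, hτc] at d3
    have d4 : c • τ v ≠ τ v := fun h => hv1 (S.eq_zero_of_fix trivial h)
    have d5 : c • c • τ v ≠ τ v := fun h => hv1 (S.eq_zero_of_fix2 trivial h)
    have d6 : c • c • τ v ≠ c • τ v := fun h => d4 (smul_left_cancel c h)
    have d7 : c • τ v ≠ 0 := fun h => hv1 ((smul_eq_zero_iff_eq c).mp h)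
    have d8 : c • c • τ v ≠ 0 := fun h => d7 ((smul_eq_zero_iff_eq c).mp h)
    have hcard : ({τ w, c • c • τ v, c • τ v, τ v, 0} : Finset V).card = 5 := by
      rw [Finset.card_insert_of_notMem (by simp [d1, d2, d3, hw1]),
        Finset.card_insert_of_notMem (by simp [d5, d6, d8]),
        Finset.card_insert_of_notMem (by simp [d4, d7]), Finset.card_pair hv1]
    have hsub : (({τ w, c • c • τ v, c • τ v, τ v, 0} : Finset V) : Set V) ⊆ τ.range := by
      intro z hz
      simp only [Finset.coe_insert, Finset.coe_singleton, Set.mem_insert_iff,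
        Set.mem_singleton_iff] at hz
      rcases hz with rfl | rfl | rfl | rfl | rfl
      exacts [⟨w, rfl⟩, ⟨c • c • v, by rw [hτc, hτc]⟩, ⟨c • v, hτc v⟩, ⟨v, rfl⟩, zero_mem _]
    have h3 := Set.ncard_le_ncard hsub (Set.toFinite _)
    rw [Set.ncard_coe_finset, hcard] at h3
    exact absurd (h3.trans hτ4) (by norm_num)
  have hpw : ∀ (z : H) (hz : Commute z c) (a n : ZMod 3) (u : V), (cp c a * z) • u = u →
      cp z n • u = cp c (-a * n) • u := by
    intro z hz a n u hu
    have h1 : z • u = cp c (-a) • u := by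
      rw [cp_neg S.c3, eq_inv_smul_iff, ← mul_smul, hu]
    rcases zmod3_cases n with rfl | rfl | rfl
    · simp [cp_zero]
    · rw [cp_one, mul_one, h1]
    · rw [cp_two, mul_smul, h1, ← mul_smul, (commute_cp hz _).eq, mul_smul, h1, ← mul_smul,
        ← cp_add S.c3, mul_two]
  set f : H := cp x j * cp y (-i) with hf
  have hfe : ∀ (a b : ZMod 3) (u : V), Eig c x y a b u → f • u = cp c (b * i - a * j) • u := by
    intro a b u e
    rw [hf, mul_smul, hpw y S.cy.symm b _ u e.2, ← mul_smul,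
      (commute_cp (commute_cp S.cx j).symm _).eq, mul_smul, hpw x S.cx.symm a _ u e.1, ← mul_smul,
      ← cp_add S.c3]
    congr 2; ring
  have hfc : ∀ u : V, f • c • u = c • f • u := fun u => by
    rw [← mul_smul, ((commute_cp S.cx j).mul_right (commute_cp S.cy (-i))).symm.eq, mul_smul]
  have g1 : f • τ w = τ w := by
    rw [e, hτ, smul_add, hfe _ _ _ ev', hfe _ _ _ (S.eig_t ev'),
      show -j * i - -i * j = 0 by ring, show j * i - i * j = 0 by ring, cp_zero, one_smul, one_smul]
  have g2 : ∀ (a b : ZMod 3) (u : V), Eig c x y a b u → b * i - a * j ≠ 0 →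
      f • f • u + f • u + u = 0 := by
    intro a b u e hd
    rcases zmod3_cases (b * i - a * j) with h0 | h0 | h0
    · exact absurd h0 hd
    · have := hfe a b u e
      rw [h0, cp_one] at this
      rw [this, hfc, this]; exact f1 u
    · have := hfe a b u e
      rw [h0, cp_two, mul_smul c c] at this
      rw [this, hfc, hfc, this, hc3]
      linear_combination (norm := abel) f1 u
  have g3 := g2 _ _ _ ew (fun h => hdet (by linear_combination h))
  have g4 := g2 _ _ _ (S.eig_t ew) (fun h => hdet (by linear_combination -h))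
  have g5 : f • f • τ w + f • τ w + τ w = 0 := by
    simp only [hτ, smul_add]; linear_combination (norm := abel) g3 + g4
  rw [g1, g1, two, zero_add] at g5
  exact hw1 g5

end Setup

end Cfsg.Lib.Quad.KM
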