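import Cfsg.Agent.Lib.Quad.KMThree

/-!
The Klinger–Mason theorem.
-/

set_option autoImplicit false

open Subgroup
open scoped commutatorElement

namespace Cfsg.Lib.Quad.KM

universe u

variable {G : Type u} [Group G]

/-- centralizer of an element -/
abbrev CN (u : G) : Subgroup G := centralizer ({u} : Set G)

theorem le_centralizer_zpowers_of {S : Subgroup G} {g : G} (h : g ∈ centralizer (S : Set G)) :
    S ≤ centralizer {g} := fun s hs => mem_centralizer_singleton_iff.mpr (h s hs)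

theorem mem_centralizer_sup {S : Subgroup G} {g s : G} (h1 : Commute s g)
    (h : g ∈ centralizer (S : Set G)) :
    g ∈ centralizer ((zpowers s ⊔ S : Subgroup G) : Set G) := fun _ hx =>
  mem_centralizer_singleton_iff.mp ((sup_le (zpowers_le.mpr (mem_centralizer_singleton_iff.mpr h1))
    (le_centralizer_zpowers_of h) : zpowers s ⊔ S ≤ centralizer {g}) hx)

theorem Crit.exists_anti [Finite G] {K : Subgroup G} {t : G} (h : Crit K t) {a1 b1 a2 b2 u : G}
    (ma1 : a1 ∈ K) (mb1 : b1 ∈ K) (ma2 : a2 ∈ K) (mb2 : b2 ∈ K) (n1 : Anti t a1 b1)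
    (caa : Commute a1 a2) (cab : Commute a1 b2) (cba : Commute b1 a2) (cbb : Commute b1 b2)
    (hu : u ∈ zpowers (b1 * b2) ⊔ (zpowers (a1 * a2) ⊔ zpowers t)) (hut : u ∉ zpowers t) :
    ∃ d, (d = a1 ∨ d = b1 ∨ d = a1 * b1) ∧ Commute d u ∧
      ∀ e ∈ zpowers (b1 * b2) ⊔ (zpowers (a1 * a2) ⊔ zpowers t),
        e ∉ zpowers t → u * e ∉ zpowers t → Anti t d e := by
  set E := zpowers (b1 * b2) ⊔ (zpowers (a1 * a2) ⊔ zpowers t) with hE
  have l1 : zpowers (a1 * a2) ⊔ zpowers t ≤ K := sup_le (zpowers_le.mpr (mul_mem ma1 ma2)) h.zt_le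
  have hEK : E ≤ K := sup_le (zpowers_le.mpr (mul_mem mb1 mb2)) l1
  have x1 : Anti t b1 (a1 * a2) := h.anti_mul_of_commute' ma2 (h.anti_symm n1) cba
  have x2 : Anti t a1 (b1 * b2) := h.anti_mul_of_commute' mb2 n1 cab
  have hzt : ∀ s ∈ zpowers t, ∀ k ∈ K, Commute k s := fun s hs k hk => by
    rcases (mem_zpowers_invol h.t2).mp hs with rfl | rfl
    exacts [Commute.one_right k, h.ct hk]
  have key : ∀ e ∈ E, Commute a1 e → Commute b1 e → e ∈ zpowers t := by
    intro e he c1 c2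
    have c3 : ∀ s ∈ zpowers (a1 * a2) ⊔ zpowers t, Commute a1 s := fun s hs =>
      (mem_centralizer_sup ((Commute.refl a1).mul_left caa.symm)
        (fun s hs => (hzt s hs a1 ma1).symm) s hs).symm
    rcases h.mem_sup_cases l1 (mem_sup_right (mem_zpowers t)) (mul_mem mb1 mb2) he with e1 | e1
    · rcases h.mem_sup_cases h.zt_le (mem_zpowers t) (mul_mem ma1 ma2) e1 with e2 | e2
      · exact e2
      · refine absurd ?_ (h.not_commute x1)
        simpa using c2.mul_right (hzt _ e2 b1 mb1).inv_right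
    · refine absurd ?_ (h.not_commute x2)
      simpa using c1.mul_right (c3 _ e1).inv_right
  have uK := hEK hu
  rcases h.comm_or_anti ma1 uK with p1 | p1
  · refine ⟨a1, Or.inl rfl, p1, fun e he n2 n3 => (h.comm_or_anti ma1 (hEK he)).resolve_left
      fun c1 => ?_⟩
    have q1 := (h.comm_or_anti mb1 uK).resolve_left fun c => hut (key u hu p1 c)
    rcases h.comm_or_anti mb1 (hEK he) with c2 | c2
    · exact n2 (key e he c1 c2)
    · exact n3 (key _ (mul_mem hu he) (p1.mul_right c1) (h.commute_mul_of_anti (hEK he) q1 c2))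
  rcases h.comm_or_anti mb1 uK with p2 | p2
  · refine ⟨b1, Or.inr (Or.inl rfl), p2, fun e he n2 n3 =>
      (h.comm_or_anti mb1 (hEK he)).resolve_left fun c1 => ?_⟩
    rcases h.comm_or_anti ma1 (hEK he) with c2 | c2
    · exact n2 (key e he c2 c1)
    · exact n3 (key _ (mul_mem hu he) (h.commute_mul_of_anti (hEK he) p1 c2) (p2.mul_right c1))
  refine ⟨a1 * b1, Or.inr (Or.inr rfl),
    (h.commute_mul_of_anti mb1 (h.anti_symm p1) (h.anti_symm p2)).symm, fun e he n2 n3 =>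
      (h.comm_or_anti (mul_mem ma1 mb1) (hEK he)).resolve_left fun c1 => ?_⟩
  rcases h.comm_or_anti ma1 (hEK he) with c2 | c2
  · exact n2 (key e he c2 (by simpa using c2.inv_left.mul_left c1))
  · rcases h.comm_or_anti mb1 (hEK he) with c3 | c3
    · exact h.not_commute c2 (by simpa using c1.mul_left c3.inv_left)
    · exact n3 (key _ (mul_mem hu he) (h.commute_mul_of_anti (hEK he) p1 c2)
        (h.commute_mul_of_anti (hEK he) p2 c3))

/-- The second half of the argument, in the centralizer of the new involution `u`. -/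
theorem Pair.false_of_config [Finite G] {n : ℕ} (hR : RankBd 3 (n + 3) G) {B K C : Subgroup G}
    {u t x y h k d : G} (hP : Pair 3 (n + 3) B K u) (hCB : C ≤ B) (hC : Nat.card C = 3 ^ (n + 1))
    (xB : x ∈ B) (yB : y ∈ B) (hgen : B ≤ zpowers y ⊔ (zpowers x ⊔ C)) (x1 : x ≠ 1)
    (tu : Commute t u) (hu : Commute h u) (ku : Commute k u) (du : Commute d u)
    (tC : t ∈ centralizer (C : Set G)) (hCc : h ∈ centralizer (C : Set G))
    (kC : k ∈ centralizer (C : Set G)) (dC : d ∈ centralizer (C : Set G))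
    (tx : t * x * t⁻¹ = x⁻¹) (ty : t * y * t⁻¹ = y⁻¹) (hx : h * x * h⁻¹ = x⁻¹) (hy : Commute h y)
    (ky : k * y * k⁻¹ = y⁻¹) (kx : Commute k x) (t2 : t * t = 1) (h2 : h * h = 1) (k2 : k * k = 1)
    (dh : d * h * d⁻¹ = h * t) (dk : d * k * d⁻¹ = k * t)
    (hKC : ∀ g ∈ K, g ∈ centralizer (C : Set G) → g ∈ centralizer (B : Set G))
    (hg : ∀ c ∈ C, c ≠ 1 → ∃ g, Commute g u ∧ g * c * g⁻¹ * c⁻¹ * (g * c * g⁻¹ * c⁻¹) = t) :
    False := by
  obtain ⟨V, _, _, _, π, πmul, πsurj, πzero, πsmul, two⟩ := hP.crit.exists_module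
  have mN : ∀ {g : G}, Commute g u → g ∈ (CN u) := fun h => mem_centralizer_singleton_iff.mpr h
  have hp2 : (3 : ℕ) ≠ 2 := by norm_num
  have πone : π 1 = 0 := (πzero 1 (one_mem _)).mpr (one_mem _)
  have πinv : ∀ a ∈ K, π a⁻¹ = π a := fun a ha => by
    have := πmul _ (inv_mem ha) a ha
    rw [inv_mul_cancel, πone] at this
    linear_combination (norm := abel) - this - two (π a)
  have πeq : ∀ a ∈ K, ∀ b ∈ K, π a = π b ↔ a⁻¹ * b ∈ centralizer (K : Set G) := by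
    intro a ha b hb
    rw [← πzero _ (mul_mem (inv_mem ha) hb), πmul _ (inv_mem ha) _ hb, πinv a ha]
    constructor
    · intro e; rw [e, two]
    · intro e; linear_combination (norm := abel) e - two (π b)
  have uZ : zpowers u ≤ centralizer (K : Set G) := zpowers_le.mpr fun g hg => hP.crit.ct hg
  have lift : ∀ A : Subgroup G, ∀ hA : A ≤ B, ∀ v : V,
      (∀ a (ha : a ∈ A), (⟨a, hP.Bt (hA ha)⟩ : (CN u)) • v = v) →
      ∃ g ∈ K, g ∈ centralizer (A : Set G) ∧ π g = v := by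
    intro A hA v hv
    obtain ⟨g, hgK, rfl⟩ := πsurj v
    have hcop := (hP.cop hp2).mono_left hA
    obtain ⟨z, hz, c, hc, rfl⟩ := hcop.exists_mul_centralizer_of_commutator_mem
      (N := centralizer (K : Set G)) (le_normalizer_centralizer hcop.norm) hgK (fun a ha => by
        have e := hv a ha
        rw [πsmul _ _ hgK, ← πinv _ hgK, ← πinv _ (hcop.conj_mem ha hgK),
          πeq _ (inv_mem (hcop.conj_mem ha hgK)) _ (inv_mem hgK)] at e
        exact mem_of_mem_of_eq (inv_mem e) (by simp only [commutatorElement_def]; group))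
    refine ⟨c, (mem_inf.mp hc).1, (mem_inf.mp hc).2, ?_⟩
    rw [πmul _ (mem_inf.mp hz).1 _ (mem_inf.mp hc).1, (πzero _ (mem_inf.mp hz).1).mpr
      (mem_inf.mp hz).2, zero_add]
  set t' : (CN u) := ⟨t, mN tu⟩ with ht'
  set h' : (CN u) := ⟨h, mN hu⟩ with hh'
  set k' : (CN u) := ⟨k, mN ku⟩ with hk'
  set d' : (CN u) := ⟨d, mN du⟩ with hd'
  set x' : (CN u) := ⟨x, hP.Bt xB⟩ with hx'
  set y' : (CN u) := ⟨y, hP.Bt yB⟩ with hy'
  have tx' : t' * x' * t'⁻¹ = x'⁻¹ := Subtype.ext tx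
  have x3 : x' ^ 3 = 1 := Subtype.ext (hP.ea.2 x xB)
  -- `t` acts nontrivially
  have hnt : ∃ v : V, t' • v ≠ v := by
    by_contra hne
    push Not at hne
    have h1 : ∀ v : V, x' • v = v := by
      intro v
      have e1 : x'⁻¹ • v = x' • v := by
        rw [← tx', mul_smul, mul_smul, hne, inv_smul_eq_iff.mpr (hne v).symm]
      rw [inv_smul_eq_iff] at e1
      conv_lhs => rw [e1]
      rw [← mul_smul, ← mul_smul, ← pow_three', x3, one_smul]
    refine x1 (zpowers_eq_bot.mp (hP.crit.faith _ (zpowers_le.mpr (hP.Bt xB))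
      (not_two_dvd_card hp2 ((ea_isPGroup hP.ea).to_le (zpowers_le.mpr xB))) fun g hgK => ?_))
    obtain ⟨c, hc, hcx, e⟩ := lift (zpowers x) (zpowers_le.mpr xB) (π g) (by
      rintro _ ⟨j, rfl⟩
      have : x' ^ j ∈ MulAction.stabilizer (CN u) (π g) := zpow_mem (h1 _) j
      exact this)
    have h3 := hP.center_le hR (mul_mem (inv_mem hc) hgK) ((πeq _ hc _ hgK).mp e)
    exact (mul_mem_cancel_left (inv_mem hcx)).mp (centralizer_mono (zpowers_le.mpr xB) h3)
  have eaC := ea_mono hP.ea hCB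
  obtain ⟨μ, hμ, hi, v0, hv0, hv1⟩ : ∃ μ, ∃ hμ : μ ≤ C, μ.relIndex C = 3 ∧ ∃ v : V,
      (∀ a (ha : a ∈ μ), (⟨a, hP.Bt (hCB (hμ ha))⟩ : (CN u)) • v = v) ∧ t' • v ≠ v := by
    by_contra hne
    push Not at hne
    have hle : K ≤ Cfsg.Lib.commInto (centralizer (K : Set G)) {t} := by
      refine ((hP.cop hp2).mono_left hCB).le_of_hyperplane eaC (ne_bot_of_pow_le_card hC.ge)
        fun μ hμ hi g hg => ⟨le_normalizer_centralizer le_normalizer (mem_inf.mp hg).1, ?_⟩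
      intro t0 ht0
      rw [show t0 = t from ht0]
      have gK := (mem_inf.mp hg).1
      have e := hne μ hμ hi (π g⁻¹) fun a ha => by
        rw [πsmul _ _ (inv_mem gK)]
        congr 1
        exact mul_inv_eq_iff_eq_mul.mpr (inv_mem (mem_inf.mp hg).2 a ha)
      rw [πsmul _ _ (inv_mem gK), eq_comm, πeq _ (inv_mem gK) _
        (conj_mem_of_le_normalizer hP.crit.norm t'.2 (inv_mem gK))] at e
      exact mem_of_mem_of_eq e (by simp only [commutatorElement_def, ht']; group)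
    obtain ⟨v, hv⟩ := hnt
    obtain ⟨g, gK, rfl⟩ := πsurj v
    apply hv
    rw [πsmul _ _ gK, eq_comm, πeq _ gK _ (conj_mem_of_le_normalizer hP.crit.norm t'.2 gK)]
    exact mem_of_mem_of_eq ((hle (inv_mem gK)).2 t rfl)
      (by simp only [commutatorElement_def, ht']; group)
  obtain ⟨c, cC, cμ⟩ : ∃ c ∈ C, c ∉ μ := by
    by_contra hne
    push Not at hne
    rw [relIndex_eq_one.mpr hne] at hi
    omega
  have hμc := hyp_of_relIndex eaC hμ hi cC cμ
  set c' : (CN u) := ⟨c, hP.Bt (hCB cC)⟩ with hc'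
  let U : AddSubgroup V :=
    { carrier := {v | ∀ a (ha : a ∈ μ), (⟨a, hP.Bt (hCB (hμ ha))⟩ : (CN u)) • v = v}
      zero_mem' := fun a ha => smul_zero _
      add_mem' := fun {v w} hv hw a ha => by rw [smul_add, hv a ha, hw a ha]
      neg_mem' := fun {v} hv a ha => by rw [smul_neg, hv a ha] }
  have mU : ∀ v, v ∈ U ↔ ∀ a (ha : a ∈ μ), (⟨a, hP.Bt (hCB (hμ ha))⟩ : (CN u)) • v = v :=
    fun _ => Iff.rfl
  have invU : ∀ g : (CN u), (g : G) ∈ centralizer (μ : Set G) → ∀ v ∈ U, g • v ∈ U := by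
    intro g hg v hv a ha
    rw [← mul_smul, show (⟨a, hP.Bt (hCB (hμ ha))⟩ : (CN u)) * g = g * ⟨a, hP.Bt (hCB (hμ ha))⟩ from
      Subtype.ext (hg a ha), mul_smul, hv a ha]
  have Bμ : B ≤ centralizer (μ : Set G) :=
    (ea_le_centralizer hP.ea).trans (centralizer_mono (hμ.trans hCB))
  have c3 : c' ^ 3 = 1 := Subtype.ext (eaC.2 c cC)
  have fixC : ∀ v ∈ U, c' • v = v → v = 0 := by
    intro v hv e
    obtain ⟨g, gK, gC, rfl⟩ := lift C hCB v (fun a ha => by
      have : C ≤ (MulAction.stabilizer (CN u) v).map (Subgroup.subtype _) := hμc.sup.trans (sup_le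
        (zpowers_le.mpr ⟨c', e, rfl⟩) fun a ha => ⟨⟨a, hP.Bt (hCB (hμ ha))⟩, hv a ha, rfl⟩)
      obtain ⟨a', ha', rfl⟩ := this ha
      exact ha')
    exact (πzero g gK).mpr (hP.mem_center hR gK (hKC g gK gC))
  -- the hyperplanes attached to weights
  let lam : ZMod 3 → ZMod 3 → Subgroup G := fun i j =>
    zpowers ((cp c' j * y' : (CN u)) : G) ⊔ (zpowers ((cp c' i * x' : (CN u)) : G) ⊔ μ)
  have cpB : ∀ i, ((cp c' i : (CN u)) : G) ∈ zpowers c := fun i => pow_mem (mem_zpowers c) i.val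
  have lamB : ∀ i j, lam i j ≤ B := fun i j =>
    sup_le (zpowers_le.mpr (mul_mem (zpowers_le.mpr (hCB cC) (cpB j)) yB))
      (sup_le (zpowers_le.mpr (mul_mem (zpowers_le.mpr (hCB cC) (cpB i)) xB)) (hμ.trans hCB))
  have lamx : ∀ i j, ((cp c' i * x' : (CN u)) : G) ∈ lam i j := fun i j =>
    mem_sup_right (mem_sup_left (mem_zpowers _))
  have lamy : ∀ i j, ((cp c' j * y' : (CN u)) : G) ∈ lam i j := fun i j => mem_sup_left (mem_zpowers _)
  have lamfix : ∀ i j, ∀ v ∈ U, Eig c' x' y' i j v →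
      ∀ a (ha : a ∈ lam i j), (⟨a, hP.Bt (lamB i j ha)⟩ : (CN u)) • v = v := by
    intro i j v hv e a ha
    have : lam i j ≤ (MulAction.stabilizer (CN u) v).map (Subgroup.subtype _) := sup_le
      (zpowers_le.mpr ⟨_, e.2, rfl⟩) (sup_le (zpowers_le.mpr ⟨_, e.1, rfl⟩)
        fun a ha => ⟨⟨a, hP.Bt (hCB (hμ ha))⟩, hv a ha, rfl⟩)
    obtain ⟨a', ha', rfl⟩ := this ha
    exact ha'
  have lamhyp : ∀ i j, ∀ v ∈ U, Eig c' x' y' i j v → v ≠ 0 → Hyp B (lam i j) c := by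
    intro i j v hv e h0
    refine ⟨lamB i j, hCB cC, fun hc => h0 (fixC v hv (lamfix i j v hv e c hc)), hgen.trans
      (sup_le (zpowers_le.mpr ?_) (sup_le (zpowers_le.mpr ?_) (hμc.sup.trans
        (sup_le_sup_left (le_sup_of_le_right le_sup_right) _))))⟩
    · exact (mul_mem_cancel_left (mem_sup_left (cpB j))).mp (mem_sup_right (lamy i j))
    · exact (mul_mem_cancel_left (mem_sup_left (cpB i))).mp (mem_sup_right (lamx i j))
  have lamwt : ∀ i j, ∀ v ∈ U, Eig c' x' y' i j v → ∃ a ∈ wt B K u (lam i j), π a = v := by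
    intro i j v hv e
    obtain ⟨g, gK, gC, rfl⟩ := lift _ (lamB i j) v (lamfix i j v hv e)
    obtain ⟨a, ha, r, rK, rB, rfl⟩ := hP.wt_dec hp2 (lamB i j) gK gC
    exact ⟨a, ha, by rw [πmul _ (hP.wt_K hp2 (lamB i j) ha) _ rK,
      (πzero r rK).mpr (hP.mem_center hR rK rB), add_zero]⟩
  have hD : ∀ e : (CN u), (e : G) * e = 1 → d' * e * d'⁻¹ = e * t' → (∀ v ∈ U, e • v = v) →
      (∀ v ∈ U, e • v ∈ U) → ∀ v ∈ U, t' • v = v := by
    intro e e2 de he _ v hv
    have h1 := he _ (invU d'⁻¹ (inv_mem (centralizer_mono hμ dC)) v hv)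
    have h3 : (d' * e * d'⁻¹) • v = v := by rw [mul_smul, mul_smul, h1, smul_inv_smul]
    rw [de, mul_smul, ← eq_inv_smul_iff] at h3
    rw [h3, inv_smul_eq_iff, he v hv]
  have S : Setup U c' x' y' t' h' k' :=
    { two := two
      c3 := c3
      x3 := x3
      y3 := Subtype.ext (hP.ea.2 y yB)
      cx := Subtype.ext (ea_comm hP.ea (hCB cC) xB)
      cy := Subtype.ext (ea_comm hP.ea (hCB cC) yB)
      xy := Subtype.ext (ea_comm hP.ea xB yB)
      tc := Subtype.ext (tC c cC).symm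
      hc := Subtype.ext (hCc c cC).symm
      kc := Subtype.ext (kC c cC).symm
      tx := tx'
      ty := Subtype.ext ty
      hx := Subtype.ext hx
      hy := Subtype.ext hy
      ky := Subtype.ext ky
      kx := Subtype.ext kx
      t2 := Subtype.ext t2
      h2 := Subtype.ext h2
      k2 := Subtype.ext k2
      cU := invU c' (Bμ (hCB cC))
      xU := invU x' (Bμ xB)
      yU := invU y' (Bμ yB)
      hU := invU h' (centralizer_mono hμ hCc)
      kU := invU k' (centralizer_mono hμ kC)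
      fpf := fun v hv => by
        have cU := invU c' (Bμ (hCB cC))
        refine fixC _ (add_mem (add_mem (cU _ (cU _ hv)) (cU _ hv)) hv) ?_
        rw [smul_add, smul_add, ← mul_smul c' c' (c' • v), ← mul_smul (c' * c') c' v, ← pow_three',
          c3, one_smul]
        abel
      small := fun i j v hv w hw ev ew h0 => by
        have hl := lamhyp i j v hv ev h0
        obtain ⟨a, ha, rfl⟩ := lamwt i j v hv ev
        obtain ⟨b, hb, rfl⟩ := lamwt i j w hw ew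
        have aK := hP.wt_K hp2 hl.le ha
        have bK := hP.wt_K hp2 hl.le hb
        have a1 := hP.wt_K hp2 hl.le (hP.wt_conj hl.mem ha)
        have a2 := hP.wt_K hp2 hl.le (hP.wt_conj hl.mem (hP.wt_conj hl.mem ha))
        rw [πsmul _ _ aK, πsmul _ _ a1]
        rcases hP.wt_small hR hl ha (fun e => h0 ((πzero a aK).mpr (uZ e))) hb with e | e | e | e
        · exact Or.inl ((πzero b bK).mpr (uZ e))
        · exact Or.inr (Or.inl ((πeq _ aK _ bK).mpr (uZ e)).symm)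
        · exact Or.inr (Or.inr (Or.inl ((πeq _ a1 _ bK).mpr (uZ e)).symm))
        · exact Or.inr (Or.inr (Or.inr ((πeq _ a2 _ bK).mpr (uZ e)).symm))
      hD := fun e => hD h' h2 (Subtype.ext dh) e (invU h' (centralizer_mono hμ hCc))
      kD := fun e => hD k' k2 (Subtype.ext dk) e (invU k' (centralizer_mono hμ kC)) }
  rcases n with _ | n
  · have hμ0 : μ = ⊥ := card_eq_one.mp (hμc.card eaC hC)
    have hU : U = ⊤ := by
      rw [eq_top_iff]
      intro v _ a ha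
      have : a = 1 := mem_bot.mp (hμ0 ▸ ha)
      subst this
      exact one_smul (CN u) v
    obtain ⟨g, gu, hg⟩ := hg c cC (fun e => cμ (e ▸ one_mem _))
    rw [hU] at S
    exact S.false_of_sl2 hnt (g := ⟨g, mN gu⟩) (Subtype.ext hg)
  obtain ⟨i, j, i', j', v, w, hv, hw, hv0, hw0, ev, ew, hdet⟩ :=
    S.exists_two_weights ⟨v0, hv0, hv1⟩
  have tU := invU t' (centralizer_mono hμ tC)
  have get : ∀ i j, ∀ v ∈ U, Eig c' x' y' i j v → v ≠ 0 → Hyp B (lam i j) c ∧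
      ∃ a ∈ wt B K u (lam i j), c * a * c⁻¹ ∈ wt B K u (lam i j) ∧ a * a = u ∧
        c * a * c⁻¹ * (c * a * c⁻¹) = u ∧ Anti u a (c * a * c⁻¹) := by
    intro i j v hv e h0
    have hl := lamhyp i j v hv e h0
    obtain ⟨a, ha, rfl⟩ := lamwt i j v hv e
    have hat : a ∉ zpowers u := fun e => h0 ((πzero a (hP.wt_K hp2 hl.le ha)).mpr (uZ e))
    exact ⟨hl, a, ha, hP.wt_conj hl.mem ha, hP.wt_sq hR hl ha hat,
      hP.wt_sq hR hl (hP.wt_conj hl.mem ha) (hP.conj_nmem hl.mem hat), hP.wt_anti hR hl ha hat⟩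
  have hcm : ∀ {i j i' j'}, Hyp B (lam i j) c → ¬ (i = i' ∧ j = j') →
      ∀ {a a'}, a ∈ wt B K u (lam i j) → a' ∈ wt B K u (lam i' j') → Commute a a' := by
    intro i j i' j' hl hne a a' ha ha'
    have key : ∀ (z : (CN u)) (s s' : ZMod 3), s ≠ s' → ((cp c' s * z : (CN u)) : G) ∈ lam i j →
        ((cp c' s' * z : (CN u)) : G) ∉ lam i j := by
      intro z s s' hs m1 m2
      have m3 : ((cp c' (s - s') : (CN u)) : G) ∈ lam i j := by
        refine mem_of_mem_of_eq (mul_mem m1 (inv_mem m2)) ?_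
        rw [sub_eq_add_neg, cp_add c3, cp_neg c3]
        simp only [coe_mul, InvMemClass.coe_inv]; group
      apply hl.nmem
      rcases zmod3_cases (s - s') with e | e | e
      · exact absurd (sub_eq_zero.mp e) hs
      · rwa [e, cp_one] at m3
      · rw [e, cp_two] at m3
        exact mem_of_mem_of_eq (mul_mem m3 m3) (by
          show c * c * (c * c) = c
          rw [← mul_assoc, ← pow_three', eaC.2 c cC, one_mul])
    by_cases hi : i = i'
    · have hj : j ≠ j' := fun e => hne ⟨hi, e⟩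
      exact hP.wt_comm hp2 (hl.change hP.ea (lamB i' j' (lamy i' j')) (key y' j j' hj (lamy i j)))
        (lamB i' j') (lamy i' j') ha ha'
    · exact hP.wt_comm hp2 (hl.change hP.ea (lamB i' j' (lamx i' j')) (key x' i i' hi (lamx i j)))
        (lamB i' j') (lamx i' j') ha ha'
  obtain ⟨l1, a1, p1, q1, r1, s1, n1⟩ := get i j v hv ev hv0
  obtain ⟨l2, a2, p2, q2, r2, s2, n2⟩ := get _ _ _ (tU v hv) (S.eig_t ev)
    (fun e => hv0 ((smul_eq_zero_iff_eq t').mp e))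
  obtain ⟨l3, a3, p3, q3, r3, s3, n3⟩ := get i' j' w hw ew hw0
  obtain ⟨l4, a4, p4, q4, r4, s4, n4⟩ := get _ _ _ (tU w hw) (S.eig_t ew)
    (fun e => hw0 ((smul_eq_zero_iff_eq t').mp e))
  have hd : ¬ (i = -i ∧ j = -j) ∧ ¬ (i' = -i' ∧ j' = -j') ∧ ¬ (i = i' ∧ j = j') ∧
      ¬ (i = -i' ∧ j = -j') ∧ ¬ (-i = i' ∧ -j = j') ∧ ¬ (-i = -i' ∧ -j = -j') := by
    revert hdet
    generalize i = i, j = j, i' = i', j' = j'
    revert i j i' j'; decide
  obtain ⟨d12, d34, d13, d14, d23, d24⟩ := hd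
  have wK := fun {i j a} (ha : a ∈ wt B K u (lam i j)) => hP.wt_K hp2 (lamB i j) ha
  have cz : ∀ {i j a}, a ∈ wt B K u (lam i j) → a ∈ centralizer (zpowers u : Set G) := fun ha => by
    rw [centralizer_zpowers]; exact hP.crit.Kt (wK ha)
  obtain ⟨e1, c1⟩ := hP.crit.ea_build hP.crit.ea_zt (wK p2) (wK q2) (cz p1) (cz q1) (cz p2) (cz q2)
    r1 s1 r2 s2 n1 n2 (hcm l1 d12 p1 p2) (hcm l1 d12 p1 q2) (hcm l1 d12 q1 p2) (hcm l1 d12 q1 q2)
  have cz2 : ∀ {i' j' a}, ¬ (i = i' ∧ j = j') → ¬ (-i = i' ∧ -j = j') →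
      a ∈ wt B K u (lam i' j') → a ∈ centralizer ((zpowers (c * a1 * c⁻¹ * (c * a2 * c⁻¹)) ⊔
        (zpowers (a1 * a2) ⊔ zpowers u) : Subgroup G) : Set G) := fun e1 e2 ha =>
    mem_centralizer_sup ((hcm l1 e1 q1 ha).mul_left (hcm l2 e2 q2 ha))
      (mem_centralizer_sup ((hcm l1 e1 p1 ha).mul_left (hcm l2 e2 p2 ha)) (cz ha))
  obtain ⟨e2, c2⟩ := hP.crit.ea_build e1 (wK p4) (wK q4) (cz2 d13 d23 p3) (cz2 d13 d23 q3)
    (cz2 d14 d24 p4) (cz2 d14 d24 q4)
    r3 s3 r4 s4 n3 n4 (hcm l3 d34 p3 p4) (hcm l3 d34 p3 q4) (hcm l3 d34 q3 p4) (hcm l3 d34 q3 q4)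
  rw [c1, hP.crit.card_zt] at c2
  have wμ : ∀ {i j a}, a ∈ wt B K u (lam i j) → a ∈ centralizer (μ : Set G) := fun ha =>
    centralizer_mono (le_sup_of_le_right le_sup_right) (hP.wt_C hp2 (lamB _ _) ha)
  have := hR.not_card (ea_mono eaC hμ) (by omega) (hμc.card eaC hC) e2
    (sup_le (zpowers_le.mpr (mul_mem (wμ q3) (wμ q4))) (sup_le (zpowers_le.mpr
      (mul_mem (wμ p3) (wμ p4))) (sup_le (zpowers_le.mpr (mul_mem (wμ q1) (wμ q2)))
      (sup_le (zpowers_le.mpr (mul_mem (wμ p1) (wμ p2))) (zpowers_le.mpr (wμ (i := i) (j := j) hP.t_mem))))))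
    (r := 4) c2
  omega

theorem Pair.false_of_three [Finite G] {n : ℕ} (h3 : LocChar 3 G) (h2 : LocChar 2 G)
    (hR : RankBd 3 (n + 3) G) {B K : Subgroup G} {t : G} (h : Pair 3 (n + 3) B K t) : False := by
  have hp2 : (3 : ℕ) ≠ 2 := by norm_num
  obtain ⟨l1, l2, β1, β2, hl1, hl2, hβ, ⟨a1, p1, m1⟩, ⟨a2, p2, m2⟩⟩ := h.exists_two_wt hp2
  have q1 := h.wt_conj hl1.mem p1
  have q2 := h.wt_conj hl2.mem p2
  have r1 := h.wt_sq hR hl1 p1 m1
  have r2 := h.wt_sq hR hl2 p2 m2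
  have s1 := h.wt_sq hR hl1 q1 (h.conj_nmem hl1.mem m1)
  have s2 := h.wt_sq hR hl2 q2 (h.conj_nmem hl2.mem m2)
  have n1 := h.wt_anti hR hl1 p1 m1
  have n2 := h.wt_anti hR hl2 p2 m2
  generalize β1 * a1 * β1⁻¹ = b1 at q1 s1 n1
  generalize β2 * a2 * β2⁻¹ = b2 at q2 s2 n2
  have hcm : ∀ {a a'}, a ∈ wt B K t l1 → a' ∈ wt B K t l2 → Commute a a' := fun ha ha' =>
    (h.wt_comm hp2 hl2 hl1.le hβ ha' ha).symm
  have K1 := fun {a} (ha : a ∈ wt B K t l1) => h.wt_K hp2 hl1.le ha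
  have K2 := fun {a} (ha : a ∈ wt B K t l2) => h.wt_K hp2 hl2.le ha
  have cz : ∀ {k}, k ∈ K → k ∈ centralizer (zpowers t : Set G) := fun hk => by
    rw [centralizer_zpowers]; exact h.crit.Kt hk
  obtain ⟨eaE, cE⟩ := h.crit.ea_build h.crit.ea_zt (K2 p2) (K2 q2) (cz (K1 p1)) (cz (K1 q1))
    (cz (K2 p2)) (cz (K2 q2)) r1 s1 r2 s2 n1 n2 (hcm p1 p2) (hcm p1 q2) (hcm q1 p2) (hcm q1 q2)
  have hd := fun u => h.crit.exists_anti (u := u) (K1 p1) (K1 q1) (K2 p2) (K2 q2) n1 (hcm p1 p2)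
    (hcm p1 q2) (hcm q1 p2) (hcm q1 q2)
  have hcg : ∀ g, (∀ a ∈ wt B K t l1, Commute a g) → (∀ a ∈ wt B K t l2, Commute a g) →
      g ∈ centralizer ((zpowers (b1 * b2) ⊔ (zpowers (a1 * a2) ⊔ zpowers t) : Subgroup G) : Set G) :=
    fun g e1 e2 => mem_centralizer_sup ((e1 _ q1).mul_left (e2 _ q2))
      (mem_centralizer_sup ((e1 _ p1).mul_left (e2 _ p2)) (by
        rw [centralizer_zpowers]; exact mem_centralizer_singleton_iff.mpr (e1 t h.t_mem).symm))
  have hEK : zpowers (b1 * b2) ⊔ (zpowers (a1 * a2) ⊔ zpowers t) ≤ K :=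
    sup_le (zpowers_le.mpr (mul_mem (K1 q1) (K2 q2)))
      (sup_le (zpowers_le.mpr (mul_mem (K1 p1) (K2 p2))) h.crit.zt_le)
  have hC := hl2.inf h.ea.1 hl1.le hβ
  have hCB : l2 ⊓ l1 ≤ B := inf_le_right.trans hl1.le
  have cC := hC.card (ea_mono h.ea hl1.le) (hl1.card h.ea h.card)
  have w1 : ∀ {a}, a ∈ wt B K t l1 → a ∈ centralizer ((l2 ⊓ l1 : Subgroup G) : Set G) := fun ha =>
    centralizer_mono inf_le_right (h.wt_C hp2 hl1.le ha)
  have w2 : ∀ {a}, a ∈ wt B K t l2 → a ∈ centralizer ((l2 ⊓ l1 : Subgroup G) : Set G) := fun ha =>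
    centralizer_mono inf_le_left (h.wt_C hp2 hl2.le ha)
  have hEC : zpowers (b1 * b2) ⊔ (zpowers (a1 * a2) ⊔ zpowers t) ≤
      centralizer ((l2 ⊓ l1 : Subgroup G) : Set G) :=
    sup_le (zpowers_le.mpr (mul_mem (w1 q1) (w2 q2)))
      (sup_le (zpowers_le.mpr (mul_mem (w1 p1) (w2 p2))) (zpowers_le.mpr (w1 h.t_mem)))
  have tE : t ∈ zpowers (b1 * b2) ⊔ (zpowers (a1 * a2) ⊔ zpowers t) :=
    mem_sup_right (mem_sup_right (mem_zpowers t))
  have Cl1 : l2 ⊓ l1 ≤ l1 := inf_le_right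
  have Cl2 : l2 ⊓ l1 ≤ l2 := inf_le_left
  generalize zpowers (b1 * b2) ⊔ (zpowers (a1 * a2) ⊔ zpowers t) = E at *
  generalize l2 ⊓ l1 = C at *
  rw [h.crit.card_zt] at cE
  have eaC := ea_mono h.ea hCB
  obtain ⟨P, hP, hCP, b, x, g1, g2, g3⟩ := h3.dual hp2 (ea_isPGroup eaC)
    (ne_bot_of_pow_le_card cC.ge) eaE hEC (r := 3) cE
  have xne := fun i => ne_inv_of_odd hp2 (g1 i).2.2.2.1 (g1 i).2.2.2.2.1
  have oddP : ∀ g ∈ P, Odd (orderOf g) := fun g hg => by
    obtain ⟨k, hk⟩ := hP ⟨g, hg⟩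
    exact (Odd.pow (by norm_num : Odd 3)).of_dvd_nat
      (orderOf_dvd_of_pow_eq_one (congrArg Subtype.val hk))
  have tinv : ∀ i, t * x i * t⁻¹ = (x i)⁻¹ := fun i => by
    refine ((g1 i).2.2.2.2.2.2 t tE).resolve_left fun e => xne i ?_
    have hx : x i ∈ centralizer ({t} : Set G) :=
      mem_centralizer_singleton_iff.mpr (mul_inv_eq_iff_eq_mul.mp e).symm
    have e1 : (x i)⁻¹ * (x i)⁻¹ ∈ K := mem_of_mem_of_eq (mul_mem (hEK (g1 i).1)
      (conj_mem_of_le_normalizer h.crit.norm hx (inv_mem (hEK (g1 i).1)))) (by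
        rw [← mul_assoc, ← mul_assoc, (g1 i).2.2.2.2.2.1])
    have e2 := h.crit.eq_one_of_odd e1 (oddP _ (mul_mem (inv_mem (g1 i).2.1) (inv_mem (g1 i).2.1)))
    rw [eq_inv_iff_mul_eq_one, ← inv_eq_one, mul_inv_rev, e2]
  have bsq : ∀ i, b i * b i = 1 := fun i => by rw [← pow_two]; exact eaE.2 _ (g1 i).1
  have bc : ∀ i j, i ≠ j → Commute (b i) (x j) := fun i j e => mul_inv_eq_iff_eq_mul.mp (g2 i j e)
  have nb : ∀ i, ¬ Commute (b i) (x i) := fun i e => xne i (by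
    rw [← (g1 i).2.2.2.2.2.1, e.eq, mul_inv_cancel_right])
  have nt : ∀ i, ¬ Commute t (x i) := fun i e => xne i (by
    rw [← tinv i, e.eq, mul_inv_cancel_right])
  obtain ⟨ea1, c1⟩ := ea_zpowers_sup eaC (g1 1).2.2.2.2.1 (g1 1).2.2.1
    (fun e => nb 1 (hEC (g1 1).1 _ e).symm)
  obtain ⟨ea2, c2⟩ := ea_zpowers_sup ea1 (g1 2).2.2.2.2.1 (mem_centralizer_sup (g3 1 2) (g1 2).2.2.1)
    (fun e => nb 2 (mem_centralizer_sup (bc 2 1 (by decide)).symm (hEC (g1 2).1) _ e).symm)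
  have u1 : b 0 ≠ 1 := fun e => nb 0 (e ▸ Commute.one_left _)
  obtain ⟨K', hP'⟩ := exists_pair (m := n + 1) h2 hR hp2 ea2 (by rw [c2, c1, cC]; ring) u1 (bsq 0)
    (le_centralizer_zpowers_of (mem_centralizer_sup (bc 0 2 (by decide)).symm
      (mem_centralizer_sup (bc 0 1 (by decide)).symm (hEC (g1 0).1))))
  have nzt : ∀ e : G, ∀ i j, ¬ Commute e (x i) → Commute e (x j) → e ∉ zpowers t := by
    intro e i j e1 e2 he
    rcases (mem_zpowers_invol h.crit.t2).mp he with rfl | rfl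
    exacts [e1 (Commute.one_left _), nt j e2]
  obtain ⟨d, hd1, du, hd2⟩ := hd (b 0) (g1 0).1 (nzt _ 0 1 (nb 0) (bc 0 1 (by decide)))
  have dw : d ∈ wt B K t l1 := by
    rcases hd1 with rfl | rfl | rfl
    exacts [p1, q1, mul_mem p1 q1]
  have hconj : ∀ i j : Fin 3, i ≠ 0 → j ≠ 0 → i ≠ j → d * b i * d⁻¹ = b i * t := by
    intro i j hi hj hij
    have := hd2 (b i) (g1 i).1 (nzt _ i j (nb i) (bc i j hij))
      (nzt _ i j (fun e => nb i (by simpa using (bc 0 i hi.symm).inv_left.mul_left e))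
        ((bc 0 j hj.symm).mul_left (bc i j hij)))
    rw [Anti] at this
    rw [this, mul_assoc, mul_assoc, ← mul_assoc d, h.crit.ct (K1 dw)]; group
  have cE' : ∀ {e e'}, e ∈ E → e' ∈ E → Commute e e' := fun he he' => ea_comm eaE he he'
  refine hP'.false_of_config hR (C := C) (t := t) (x := x 1) (y := x 2) (h := b 1) (k := b 2)
    (d := d) (le_sup_of_le_right le_sup_right) cC (mem_sup_right (mem_sup_left (mem_zpowers _)))
    (mem_sup_left (mem_zpowers _)) le_rfl (g1 1).2.2.2.1 (cE' tE (g1 0).1) (cE' (g1 1).1 (g1 0).1)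
    (cE' (g1 2).1 (g1 0).1) du (hEC tE) (hEC (g1 1).1) (hEC (g1 2).1) (w1 dw) (tinv 1) (tinv 2)
    (g1 1).2.2.2.2.2.1 (bc 1 2 (by decide)) (g1 2).2.2.2.2.2.1 (bc 2 1 (by decide)) h.crit.t2
    (bsq 1) (bsq 2) (hconj 1 2 (by decide) (by decide) (by decide))
    (hconj 2 1 (by decide) (by decide) (by decide)) (fun g gK gC => ?_) (fun c cC c1 => ?_)
  · have key : ∀ i, i ≠ 0 → Commute (x i) g := fun i hi => by
      have hx : x i ∈ centralizer ({b 0} : Set G) :=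
        mem_centralizer_singleton_iff.mpr (bc 0 i hi.symm).symm
      refine commutatorElement_eq_one_iff_mul_comm.mp (hP'.crit.eq_one_of_odd
        (mul_mem (conj_mem_of_le_normalizer hP'.crit.norm hx gK) (inv_mem gK)) (oddP _ ?_))
      exact mem_of_mem_of_eq (mul_mem (g1 i).2.1 (conj_mem_of_mem_normalizer (hCP gC)
        (inv_mem (g1 i).2.1))) (by group)
    exact mem_centralizer_sup (key 2 (by decide)) (mem_centralizer_sup (key 1 (by decide)) gC)
  · obtain ⟨l3, hl3, g, gw, gt⟩ := h.exists_wt hp2 (hCB cC) c1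
    refine ⟨g, (hcg g (fun a ha => (h.wt_comm hp2 hl3 hl1.le (Cl1 cC) gw ha).symm)
      (fun a ha => (h.wt_comm hp2 hl3 hl2.le (Cl2 cC) gw ha).symm) _ (g1 0).1).symm, ?_⟩
    refine h.wt_sq hR hl3 (mem_of_mem_of_eq (mul_mem gw (h.wt_conj hl3.mem (inv_mem gw)))
      (by group)) fun e => gt ?_
    exact (inv_mem_iff.mp (h.wt_fix' hp2 hl3 (inv_mem gw) (mem_of_mem_of_eq e (by group))))

/-- **Klinger–Mason theorem**. -/
theorem klinger_mason [Finite G] {p : ℕ} [hp : Fact p.Prime] (hp2 : p ≠ 2) (hl : LocChar p G)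
    (h2 : LocChar 2 G) {A T : Subgroup G} (hA : IsElementaryAbelian p A) (hT : IsPGroup 2 T)
    (hne : T ≠ ⊥) (hAT : A ≤ normalizer (T : Set G)) : Nat.card A ≤ p ^ 2 := by
  classical
  by_contra hlt
  obtain ⟨a, ha⟩ := (ea_isPGroup hA).exists_card_eq
  have ha3 : 3 ≤ a := by
    by_contra h
    exact hlt (ha ▸ Nat.pow_le_pow_right hp.out.pos (by omega))
  let Pr : ℕ → Prop := fun n => ∃ (B : Subgroup G) (t : G), IsElementaryAbelian p B ∧
    Nat.card B = p ^ n ∧ t ≠ 1 ∧ t * t = 1 ∧ B ≤ centralizer {t}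
  have hbd : ∀ n, Pr n → n ≤ Nat.card G := by
    rintro n ⟨B, t, -, hc, -⟩
    exact (Nat.lt_pow_self hp.out.one_lt).le.trans (hc ▸ B.card_le_card_group)
  set m := Nat.findGreatest Pr (Nat.card G) with hm
  have hM : MaxRank p m G := fun B t n e1 e2 e3 e4 e5 =>
    Nat.le_findGreatest (hbd n ⟨B, t, e1, e2, e3, e4, e5⟩) ⟨B, t, e1, e2, e3, e4, e5⟩
  have hR := hl.rankBd hp2 hM
  have hm3 : 3 ≤ m := by
    set V := omegaOne 2 (T ⊓ centralizer (T : Set G)) with hV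
    have eaV : IsElementaryAbelian 2 V := ea_omegaOne_center T
    have hcop : CoprimeAct A V := CoprimeAct.of_isPGroup (ea_isPGroup hA)
      (not_dvd_card_two hp2 (ea_isPGroup eaV)) (hAT.trans (normalizer_le_normalizer_omegaOne_center T))
    obtain ⟨z, hz, hz1, hz2, hzc⟩ := h9_exists_central_mem hT hne
    have hzV : z ∈ V := mem_omegaOne (mem_inf.mpr ⟨hz, fun y hy => (hzc y hy).symm⟩) hz2
    by_contra hlt
    have h0 : ∀ v ∈ V, v ∈ centralizer (A : Set G) → v = 1 := fun v hv hc => by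
      by_contra h1
      have := hM A v a hA ha h1 (by rw [← pow_two]; exact eaV.2 v hv) (le_centralizer_zpowers_of hc)
      omega
    refine hz1 (mem_bot.mp (hcop.le_of_hyperplane hA (ne_bot_of_pow_le_card (n := a - 1)
      (by rw [ha]; exact Nat.pow_le_pow_right hp.out.pos (by omega))) (fun B hB hi v hv => ?_) hzV))
    refine mem_bot.mpr (h0 v (mem_inf.mp hv).1 fun g hg => ?_)
    by_contra hne
    have hv2 : v * v = 1 := by rw [← pow_two]; exact eaV.2 v (mem_inf.mp hv).1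
    have hv' := (hcop.centralizer_act (le_normalizer_of_le_of_comm hA.1 hB)).conj_mem hg hv
    have v1 : v ≠ 1 := by rintro rfl; simp at hne
    obtain ⟨e1, c1⟩ := ea_zpowers_sup (p := 2) (ea_zpowers (x := v) (by rw [pow_two, hv2]))
      (eaV.2 _ (mem_inf.mp hv').1) (by
        rw [centralizer_zpowers]
        exact mem_centralizer_singleton_iff.mpr (ea_comm eaV (mem_inf.mp hv').1 (mem_inf.mp hv).1))
      (fun e => by
        rcases (mem_zpowers_invol hv2).mp e with e | e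
        · exact v1 (by simpa using e)
        · exact hne (mul_inv_eq_iff_eq_mul.mp e))
    rw [Nat.card_zpowers, h9_orderOf_eq_two_iff.mpr ⟨v1, hv2⟩] at c1
    have cB : Nat.card B = p ^ (a - 1) := by
      have := relIndex_mul_card hB
      rw [hi, ha, show a = (a - 1) + 1 by omega, pow_succ'] at this
      exact Nat.eq_of_mul_eq_mul_left hp.out.pos this
    have := hR.not_card (ea_mono hA hB) (by omega) cB e1
      (sup_le (zpowers_le.mpr (mem_inf.mp hv').2) (zpowers_le.mpr (mem_inf.mp hv).2)) (r := 1) c1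
    omega
  obtain ⟨B, t, e1, e2, e3, e4, e5⟩ : Pr m := Nat.findGreatest_of_ne_zero hm.symm (by omega)
  obtain ⟨n, hn⟩ : ∃ n, m = n + 3 := ⟨m - 3, by omega⟩
  rw [hn] at hR e2
  obtain ⟨K, hP⟩ := exists_pair (m := n + 1) h2 hR hp2 e1 e2 e3 e4 e5
  obtain rfl := hP.eq_three hR hp2
  exact hP.false_of_three hl h2 hR

end Cfsg.Lib.Quad.KM
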