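import Mathlib
import Cfsg.Agent.Lib.Core.Local
import Cfsg.Agent.Lib.Solv.Dihedral
import Cfsg.Agent.Lib.Connect.Basic
import Cfsg.Agent.Lib.Quad.Isolated

/-!
Klinger–Mason argument: the rank lemma and the critical subgroup.
-/

set_option autoImplicit false

open Subgroup
open scoped commutatorElement

namespace Cfsg.Lib.Quad.KM

variable {G : Type*} [Group G]

/-- centralizers of nontrivial `p`-subgroups have characteristic `p` -/
def LocChar (p : ℕ) (G : Type*) [Group G] : Prop :=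
  ∀ B : Subgroup G, IsPGroup p B → B ≠ ⊥ → ∃ P : Subgroup G, IsPGroup p P ∧
    P ≤ centralizer (B : Set G) ∧ centralizer (B : Set G) ≤ normalizer (P : Set G) ∧
    centralizer (B : Set G) ⊓ centralizer (P : Set G) ≤ P

theorem locChar_of [Finite G] {p : ℕ} [Fact p.Prime]
    (h : ∀ T : Subgroup G, IsPGroup p T → T ≠ ⊥ →
      centralizer (pCore p ↥(normalizer (T : Set G)) : Set ↥(normalizer (T : Set G))) ≤
        pCore p ↥(normalizer (T : Set G))) : LocChar p G := by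
  intro B hB hne
  have h1 := (fstar_eq_pCore_iff_centralizer_le p).mp ((fstar_eq_pCore_normalizer_iff hB).mp
    ((fstar_eq_pCore_iff_centralizer_le p).mpr (h B hB hne)))
  refine ⟨_, isPGroup_pCoreOf (centralizer (B : Set G)), map_subtype_le _,
    le_normalizer_pCoreOf _, fun g hg => ?_⟩
  obtain ⟨hg1, hg2⟩ := mem_inf.mp hg
  refine ⟨⟨g, hg1⟩, h1 fun y hy => Subtype.ext ?_, rfl⟩
  exact hg2 y ⟨y, hy, rfl⟩

theorem not_dvd_card_two [Finite G] {p : ℕ} [hp : Fact p.Prime] (hp2 : p ≠ 2) {E : Subgroup G}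
    (hE : IsPGroup 2 E) : ¬ p ∣ Nat.card E := by
  obtain ⟨n, hn⟩ := hE.exists_card_eq
  rw [hn]
  exact fun h => hp2 ((Nat.prime_dvd_prime_iff_eq hp.out Nat.prime_two).mp
    (hp.out.dvd_of_dvd_pow h))

theorem ne_inv_of_odd {p : ℕ} [hp : Fact p.Prime] (hp2 : p ≠ 2) {x : G} (h1 : x ≠ 1)
    (hx : x ^ p = 1) : x ≠ x⁻¹ := by
  intro h
  have h2 : x ^ 2 = 1 := by rw [sq]; nth_rewrite 1 [h]; exact inv_mul_cancel x
  have := orderOf_dvd_of_pow_eq_one h2
  rw [orderOf_eq_prime hx h1] at this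
  exact hp2 ((Nat.prime_dvd_prime_iff_eq hp.out Nat.prime_two).mp this)

theorem LocChar.dual [Finite G] {p : ℕ} [hp : Fact p.Prime] (h : LocChar p G) (hp2 : p ≠ 2)
    {B E : Subgroup G} (hB : IsPGroup p B) (hne : B ≠ ⊥) (hE : IsElementaryAbelian 2 E)
    (hEB : E ≤ centralizer (B : Set G)) {r : ℕ} (hc : Nat.card E = 2 ^ r) :
    ∃ P : Subgroup G, IsPGroup p P ∧ centralizer (B : Set G) ≤ normalizer (P : Set G) ∧
      ∃ b x : Fin r → G, (∀ i, b i ∈ E ∧ x i ∈ P ∧ x i ∈ centralizer (B : Set G) ∧ x i ≠ 1 ∧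
        x i ^ p = 1 ∧ b i * x i * (b i)⁻¹ = (x i)⁻¹ ∧
        ∀ a ∈ E, a * x i * a⁻¹ = x i ∨ a * x i * a⁻¹ = (x i)⁻¹) ∧
      (∀ i j, i ≠ j → b i * x j * (b i)⁻¹ = x j) ∧ ∀ i j, Commute (x i) (x j) := by
  obtain ⟨P, hP, hPC, hCP, hsc⟩ := h B hB hne
  have hcop : CoprimeAct E P := CoprimeAct.of_isPGroup_right hP
    (not_dvd_card_two hp2 (ea_isPGroup hE)) (hEB.trans hCP)
  obtain ⟨M, hMP, hMc, hPM, hEM, hM⟩ := hcop.exists_selfCentralizing_of_two hE hP.isNilpotent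
  have hf : E ⊓ centralizer (M : Set G) = ⊥ := by
    rw [eq_bot_iff]
    intro e he
    have h1 := (hcop.mono_left (inf_le_left : E ⊓ centralizer (M : Set G) ≤ E)
      ).le_centralizer_of_self_centralizing hPM hM (le_centralizer_iff.mp inf_le_right)
    exact mem_bot.mpr (hcop.eq_one_of_mem (mem_inf.mp he).1
      (hsc (mem_inf.mpr ⟨hEB (mem_inf.mp he).1, le_centralizer_iff.mp h1 he⟩)))
  obtain ⟨b, x, h1, h2, -⟩ := (hcop.mono_right hMP hEM).exists_dual_eigen hE hf r E le_rfl hc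
  have h3 : ∀ i, ∃ j : ℕ, x i ^ p ^ j ≠ 1 ∧ (x i ^ p ^ j) ^ p = 1 := by
    intro i
    obtain ⟨k, hk⟩ := hP ⟨x i, hMP (h1 i).2.1⟩
    refine h9_exists_pow_ne_one_pow_eq_one (fun e => (h1 i).2.2.1 ?_) (k := k)
      (congrArg Subtype.val hk)
    rw [e]; simp
  choose j hj using h3
  refine ⟨P, hP, hCP, b, fun i => x i ^ p ^ j i, fun i => ⟨(h1 i).1, pow_mem (hMP (h1 i).2.1) _,
    pow_mem (hPC (hMP (h1 i).2.1)) _, (hj i).1, (hj i).2, ?_, fun a ha => ?_⟩, fun i k hik => ?_,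
    fun i k => ?_⟩
  · rw [← conj_pow, ((h1 i).2.2.2 _ (h1 i).1).resolve_left (h1 i).2.2.1, inv_pow]
  · rw [← conj_pow]
    rcases (h1 i).2.2.2 a ha with e | e <;> rw [e]
    · exact Or.inl rfl
    · exact Or.inr (inv_pow _ _)
  · rw [← conj_pow, h2 i k hik]
  · exact Commute.pow_pow (comm_of_isMulCommutative hMc (h1 i).2.1 (h1 k).2.1) _ _

/-- `m` bounds the rank of elementary abelian `p`-subgroups centralizing an involution. -/
def MaxRank (p m : ℕ) (G : Type*) [Group G] : Prop :=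
  ∀ (B : Subgroup G) (t : G) (n : ℕ), IsElementaryAbelian p B → Nat.card B = p ^ n → t ≠ 1 →
    t * t = 1 → B ≤ centralizer {t} → n ≤ m

/-- The rank inequality. -/
def RankBd (p m : ℕ) (G : Type*) [Group G] : Prop :=
  ∀ (B E : Subgroup G) (a r : ℕ), IsElementaryAbelian p B → B ≠ ⊥ → Nat.card B = p ^ a →
    IsElementaryAbelian 2 E → E ≤ centralizer (B : Set G) → Nat.card E = 2 ^ (r + 1) → a + r ≤ m

theorem LocChar.rankBd [Finite G] {p m : ℕ} [hp : Fact p.Prime] (h : LocChar p G) (hp2 : p ≠ 2)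
    (hm : MaxRank p m G) : RankBd p m G := by
  classical
  intro B E a r hB hne hcB hE hEB hc
  obtain ⟨P, -, -, b, x, h1, h2, h3⟩ := h.dual hp2 (ea_isPGroup hB) hne hE hEB hc
  have key : ∀ s : Finset (Fin (r + 1)), ∃ B' : Subgroup G, IsElementaryAbelian p B' ∧
      Nat.card B' = p ^ (a + s.card) ∧ (∀ i ∉ s, B' ≤ centralizer {b i}) ∧
      ∀ j, B' ≤ centralizer {x j} := by
    intro s
    induction s using Finset.induction_on with
    | empty =>
      exact ⟨B, hB, by simpa using hcB, fun i _ y hy =>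
        mem_centralizer_singleton_iff.mpr (hEB (h1 i).1 y hy), fun j y hy =>
        mem_centralizer_singleton_iff.mpr ((h1 j).2.2.1 y hy)⟩
    | insert j s hj ih =>
      obtain ⟨B', g1, g2, g3, g4⟩ := ih
      have hx : x j ∉ B' := fun hx => ne_inv_of_odd hp2 (h1 j).2.2.2.1 (h1 j).2.2.2.2.1 (by
        rw [← (h1 j).2.2.2.2.2.1, ← mem_centralizer_singleton_iff.mp (g3 j hj hx),
          mul_inv_cancel_right])
      obtain ⟨e1, e2⟩ := ea_zpowers_sup g1 (h1 j).2.2.2.2.1 (fun y hy =>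
        mem_centralizer_singleton_iff.mp (g4 j hy)) hx
      refine ⟨_, e1, by rw [e2, g2, Finset.card_insert_of_notMem hj]; ring, fun i hi => ?_,
        fun k => sup_le (zpowers_le.mpr (mem_centralizer_singleton_iff.mpr (h3 j k))) (g4 k)⟩
      rw [Finset.mem_insert, not_or] at hi
      exact sup_le (zpowers_le.mpr (mem_centralizer_singleton_iff.mpr
        (mul_inv_eq_iff_eq_mul.mp (h2 i j hi.1)).symm)) (g3 i hi.2)
  obtain ⟨B', g1, g2, g3, -⟩ := key (Finset.univ.erase 0)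
  refine hm B' (b 0) _ g1 (by simpa using g2) (fun e => ?_) (by rw [← sq]; exact hE.2 _ (h1 0).1)
    (g3 0 (by simp))
  have := (h1 0).2.2.2.2.2.1
  rw [e, one_mul, inv_one, mul_one] at this
  exact ne_inv_of_odd hp2 (h1 0).2.2.2.1 (h1 0).2.2.2.2.1 this

/-- A critical-type subgroup for the involution `t`. -/
structure Crit (K : Subgroup G) (t : G) : Prop where
  t1 : t ≠ 1
  t2 : t * t = 1
  two : IsPGroup 2 K
  tK : t ∈ K
  Kt : K ≤ centralizer {t}
  norm : centralizer {t} ≤ normalizer (K : Set G)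
  sq : ∀ x ∈ K, x * x = 1 ∨ x * x = t
  faith : ∀ A : Subgroup G, A ≤ centralizer {t} → ¬ 2 ∣ Nat.card A →
    K ≤ centralizer (A : Set G) → A = ⊥

theorem mem_zpowers_invol {t x : G} (ht : t * t = 1) : x ∈ zpowers t ↔ x = 1 ∨ x = t :=
  h9_mem_zpowers_two ht

theorem exists_crit [Finite G] (h2 : LocChar 2 G) {t : G} (t1 : t ≠ 1) (t2 : t * t = 1)
    (hA : ∀ S : Subgroup G, IsElementaryAbelian 2 S → S ≤ centralizer {t} →
      centralizer {t} ≤ normalizer (S : Set G) → S ≤ zpowers t) : ∃ K, Crit K t := by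
  have htp : IsPGroup 2 (zpowers t) := ea_isPGroup (ea_zpowers (by rw [sq, t2]))
  obtain ⟨Q, hQ, hQC, hCQ, hsc⟩ := h2 _ htp (by simpa using t1)
  rw [centralizer_zpowers] at hQC hCQ hsc
  set N := centralizer ({t} : Set G) with hN
  have htN : t ∈ N := mem_centralizer_singleton_iff.mpr rfl
  have htc : ∀ g ∈ N, g * t = t * g := fun g hg => mem_centralizer_singleton_iff.mp hg
  have htQ : t ∈ Q := hsc (mem_inf.mpr ⟨htN, fun q hq => htc q (hQC hq)⟩)
  have hNt : N ≤ normalizer (zpowers t : Set G) := by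
    rw [hN, ← centralizer_zpowers]; exact centralizer_le_normalizer _
  obtain ⟨A, ⟨hAQ, hAc, hNA, htA⟩, hmax⟩ := WellFounded.has_min (wellFounded_gt (α := Subgroup G))
    {A | A ≤ Q ∧ IsMulCommutative A ∧ N ≤ normalizer (A : Set G) ∧ t ∈ A}
    ⟨zpowers t, zpowers_le.mpr htQ, inferInstance, hNt, mem_zpowers t⟩
  have hinv : ∀ a ∈ A, a * a = 1 → a ∈ zpowers t := fun a ha h =>
    hA (omegaOne 2 A) (ea_omegaOne hAc) ((omegaOne_le A).trans (hAQ.trans hQC))
      (hNA.trans (normalizer_le_normalizer_omegaOne A)) (mem_omegaOne ha (by rw [sq, h]))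
  have hconj : ∀ g ∈ N, ∀ a ∈ A, g * a * g⁻¹ ∈ A := fun g hg a ha =>
    conj_mem_of_le_normalizer hNA hg ha
  let K1 : Subgroup G :=
    { carrier := {x | x ∈ Q ∧ x ∈ centralizer (A : Set G) ∧ (∀ q ∈ Q, ⁅x, q⁆ ∈ A) ∧ x * x ∈ A}
      one_mem' := ⟨one_mem _, one_mem _, fun q _ => by simp,
        by simp⟩
      mul_mem' := by
        rintro x y ⟨a1, a2, a3, a4⟩ ⟨b1, b2, b3, b4⟩
        refine ⟨mul_mem a1 b1, mul_mem a2 b2, fun q hq => ?_, ?_⟩
        · exact mem_of_mem_of_eq (mul_mem (hconj x (hQC a1) _ (b3 q hq)) (a3 q hq))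
            (by simp only [commutatorElement_def]; group)
        · exact mem_of_mem_of_eq (mul_mem (mul_mem (hconj x (hQC a1) _ (b3 x a1)) a4) b4)
            (by simp only [commutatorElement_def]; group)
      inv_mem' := by
        rintro x ⟨a1, a2, a3, a4⟩
        refine ⟨inv_mem a1, inv_mem a2, fun q hq => ?_, ?_⟩
        · exact mem_of_mem_of_eq (hconj x⁻¹ (inv_mem (hQC a1)) _ (inv_mem (a3 q hq)))
            (by simp only [commutatorElement_def]; group)
        · exact mem_of_mem_of_eq (inv_mem a4) (by group) }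
  have mK1 : ∀ x, x ∈ K1 ↔
      x ∈ Q ∧ x ∈ centralizer (A : Set G) ∧ (∀ q ∈ Q, ⁅x, q⁆ ∈ A) ∧ x * x ∈ A := fun _ => Iff.rfl
  have hNK1 : N ≤ normalizer (K1 : Set G) := by
    refine fun g hg => pg_mem_normalizer_of_conj_mem ?_
    rintro x ⟨a1, a2, a3, a4⟩
    refine ⟨conj_mem_of_le_normalizer hCQ hg a1,
      conj_mem_of_le_normalizer (le_normalizer_centralizer hNA) hg a2, fun q hq => ?_, ?_⟩
    · exact mem_of_mem_of_eq (hconj g hg _ (a3 _ (conj_mem_of_le_normalizer' hCQ hg hq)))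
        (by simp only [commutatorElement_def]; group)
    · exact mem_of_mem_of_eq (hconj g hg _ a4) (by group)
  have hAK1 : A ≤ K1 := fun a ha => ⟨hAQ ha, le_centralizer A ha, fun q hq =>
    mem_of_mem_of_eq (mul_mem ha (hconj q (hQC hq) _ (inv_mem ha)))
      (by simp only [commutatorElement_def]; group), mul_mem ha ha⟩
  have hK1A : K1 ≤ centralizer (A : Set G) := fun x hx => hx.2.1
  have hK1Q : K1 ≤ Q := fun x hx => hx.1
  have hsc1 : Q ⊓ centralizer (K1 : Set G) ≤ K1 := by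
    by_contra hne
    have hAD : A < Q ⊓ centralizer (K1 : Set G) :=
      lt_of_le_not_ge (le_inf hAQ (le_centralizer_iff.mp hK1A)) fun h => hne (h.trans hAK1)
    obtain ⟨x, hx, hxA, hx2, hxc⟩ := pg_exists_fixed_mod (hQ.to_le inf_le_left) hQ
      (le_normalizer_inf le_normalizer (le_normalizer_centralizer (hQC.trans hNK1))) hAD
      (inf_le_left.trans (hQC.trans hNA)) (hQC.trans hNA)
    have hxK : x ∈ K1 := ⟨(mem_inf.mp hx).1, centralizer_mono hAK1 (mem_inf.mp hx).2, hxc,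
      by rw [← sq]; exact hx2⟩
    refine hmax (K1 ⊓ centralizer (K1 : Set G)) ⟨inf_le_left.trans hK1Q,
      isMulCommutative_inf_centralizer K1,
      le_normalizer_inf hNK1 (le_normalizer_centralizer hNK1),
      mem_inf.mpr ⟨hAK1 htA, le_centralizer_iff.mp hK1A htA⟩⟩
      (lt_of_le_not_ge (le_inf hAK1 (le_centralizer_iff.mp hK1A)) fun h =>
        hxA (h (mem_inf.mpr ⟨hxK, (mem_inf.mp hx).2⟩)))
  have hcomm : ∀ x ∈ K1, ∀ y ∈ K1, ⁅x, y⁆ ∈ zpowers t := by
    intro x hx y hy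
    have h1 := hx.2.2.1 y hy.1
    refine hinv _ h1 ?_
    have h3 : ⁅x, y⁆ * x = x * ⁅x, y⁆ := hx.2.1 _ h1
    have h4 : x * x * y = y * (x * x) := hy.2.1 _ hx.2.2.2
    calc ⁅x, y⁆ * ⁅x, y⁆ = x * (x⁻¹ * (⁅x, y⁆ * x)) * x⁻¹ * ⁅x, y⁆ := by group
      _ = (x * x * y) * x⁻¹ * x⁻¹ * y⁻¹ := by rw [h3]; simp only [commutatorElement_def]; group
      _ = 1 := by rw [h4]; group
  have hct : ∀ g ∈ N, ∀ a ∈ zpowers t, g * a * g⁻¹ ∈ zpowers t := fun g hg a ha =>
    conj_mem_of_le_normalizer hNt hg ha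
  let K : Subgroup G :=
    { carrier := {x | x ∈ K1 ∧ x * x ∈ zpowers t}
      one_mem' := ⟨one_mem _, by simp⟩
      mul_mem' := by
        rintro x y ⟨a1, a2⟩ ⟨b1, b2⟩
        refine ⟨mul_mem a1 b1, ?_⟩
        exact mem_of_mem_of_eq (mul_mem (mul_mem (hct x (hQC a1.1) _ (hcomm y b1 x a1)) a2) b2)
          (by simp only [commutatorElement_def]; group)
      inv_mem' := by
        rintro x ⟨a1, a2⟩
        exact ⟨inv_mem a1, mem_of_mem_of_eq (inv_mem a2) (by group)⟩ }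
  refine ⟨K, t1, t2, hQ.to_le fun x hx => hx.1.1, ⟨hAK1 htA, by rw [t2]; exact one_mem _⟩,
    fun x hx => hQC hx.1.1, fun g hg => pg_mem_normalizer_of_conj_mem ?_,
    fun x hx => (mem_zpowers_invol t2).mp hx.2, fun B hB hodd hK => ?_⟩
  · rintro x ⟨a1, a2⟩
    exact ⟨conj_mem_of_le_normalizer hNK1 hg a1, mem_of_mem_of_eq (hct g hg _ a2) (by group)⟩
  have hcQ : CoprimeAct B Q := CoprimeAct.of_isPGroup_right hQ hodd (hB.trans hCQ)
  have hcA : CoprimeAct B A := hcQ.mono_right hAQ (hB.trans hNA)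
  have hAB : A ≤ centralizer (B : Set G) := by
    rw [← commutator_eq_bot_iff_le_centralizer]
    by_contra hne
    obtain ⟨a, ha, ha1, ha2⟩ := h9_exists_prime_order_mem
      (hQ.to_le (hcA.commutator_le.trans hAQ)) hne
    have h1 := hinv a (hcA.commutator_le ha) (by rw [← sq]; exact ha2)
    have h3 := commutator_inf_centralizer_eq_bot_of_comm hcA.norm hcA.cop hAc
    refine ha1 (mem_bot.mp (h3 ▸ mem_inf.mpr ⟨ha, ?_⟩))
    exact (zpowers_le.mpr fun b hb => htc b (hB hb) : zpowers t ≤ centralizer (B : Set G)) h1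
  have hcK : CoprimeAct B K1 := hcQ.mono_right hK1Q (hB.trans hNK1)
  have hKB : K1 ≤ centralizer (B : Set G) := by
    refine hcK.le_centralizer_of_commutator_le_centralizer (le_trans ?_ hK)
    rw [commutator_le]
    intro x hx b hb
    have h1 : b * x⁻¹ * b⁻¹ ∈ K1 := hcK.conj_mem hb (inv_mem hx)
    have h3 : b * (x * x) = x * x * b := hAB hx.2.2.2 b hb
    refine ⟨hcK.commutator_le (commutator_mem_commutator hx hb), mem_of_mem_of_eq
      (hct x (hQC hx.1) _ (hcomm _ h1 x hx)) ?_⟩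
    simp only [commutatorElement_def]
    calc x * (b * x⁻¹ * b⁻¹ * x * (b * x⁻¹ * b⁻¹)⁻¹ * x⁻¹) * x⁻¹
        = x * b * x⁻¹ * b⁻¹ * x * b * x⁻¹ * (x * x * b⁻¹ * (x * x)⁻¹) := by group
      _ = _ := by rw [show x * x * b⁻¹ = b⁻¹ * (x * x) by
          rw [eq_inv_mul_iff_mul_eq, ← mul_assoc, h3, mul_inv_cancel_right]]; group
  have hQB := hcQ.le_centralizer_of_self_centralizing (hQC.trans hNK1) hsc1 hKB
  rw [eq_bot_iff]
  exact fun b hb => mem_bot.mpr (hcQ.eq_one_of_mem hb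
    (hsc (mem_inf.mpr ⟨hB hb, le_centralizer_iff.mp hQB hb⟩)))

end Cfsg.Lib.Quad.KM
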