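import Cfsg.Agent.Lib.Quad.KMWeight
import Cfsg.Agent.Lib.Quad.KMAlg

/-!
Klinger–Mason argument: the prime `3`, weight groups are quaternion; the module.
-/

set_option autoImplicit false

open Subgroup
open scoped commutatorElement

namespace Cfsg.Lib.Quad.KM

universe u

variable {G : Type u} [Group G]

namespace Crit

variable {K : Subgroup G} {t : G}

theorem mem_sup_cases [Finite G] (h : Crit K t) {S : Subgroup G} (hS : S ≤ K) (ht : t ∈ S) {a x : G}
    (ha : a ∈ K) (hx : x ∈ zpowers a ⊔ S) : x ∈ S ∨ a⁻¹ * x ∈ S := by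
  obtain ⟨b, ⟨k, rfl⟩, s, hs, rfl⟩ := (mem_sup_of_le_normalizer_right
    ((zpowers_le.mpr ha).trans (h.norm_of_mem hS ht))).mp hx
  have h2 : a * a ∈ S := zpowers_le.mpr ht (h.sq_mem ha)
  rcases Int.even_or_odd' k with ⟨j, rfl | rfl⟩
  · exact Or.inl (mul_mem (mem_of_mem_of_eq (zpow_mem h2 j) (by
      simp only; rw [zpow_mul, zpow_two])) hs)
  · exact Or.inr (mem_of_mem_of_eq (mul_mem (zpow_mem h2 j) hs) (by
      simp only; rw [← pow_two, ← zpow_natCast, ← zpow_mul]; group))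

theorem eq_one_of_odd (h : Crit K t) {g : G} (hg : g ∈ K) (ho : Odd (orderOf g)) : g = 1 := by
  rcases h.sq g hg with e | e
  · exact h9_eq_one_of_odd_of_sq ho e
  · have h1 : Odd (orderOf t) := by rw [← e, ← pow_two]; exact h9_odd_orderOf_pow ho 2
    exact absurd (h9_eq_one_of_odd_of_sq h1 h.t2) h.t1

theorem exists_module [Finite G] (h : Crit K t) :
    ∃ (V : Type u) (_ : AddCommGroup V) (_ : DistribMulAction ↥(centralizer ({t} : Set G)) V)
      (_ : Finite V) (π : G → V), (∀ x ∈ K, ∀ y ∈ K, π (x * y) = π x + π y) ∧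
      (∀ v, ∃ x ∈ K, π x = v) ∧ (∀ x ∈ K, π x = 0 ↔ x ∈ centralizer (K : Set G)) ∧
      (∀ (g : centralizer ({t} : Set G)), ∀ x ∈ K, g • π x = π (g * x * (g : G)⁻¹)) ∧
      ∀ v : V, v + v = 0 := by
  classical
  set Z := centralizer (K : Set G) with hZ
  have hn : centralizer ({t} : Set G) ≤ normalizer (Z : Set G) := le_normalizer_centralizer h.norm
  have : (Z.subgroupOf K).Normal := normal_subgroupOf_of_le_normalizer (h.Kt.trans hn)
  have htZ : zpowers t ≤ Z := zpowers_le.mpr fun k hk => h.ct hk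
  let _ : CommGroup (K ⧸ Z.subgroupOf K) := { (inferInstance : Group (K ⧸ Z.subgroupOf K)) with
    mul_comm := by
      intro a b
      obtain ⟨a, rfl⟩ := QuotientGroup.mk_surjective a
      obtain ⟨b, rfl⟩ := QuotientGroup.mk_surjective b
      rw [← QuotientGroup.mk_mul, ← QuotientGroup.mk_mul, QuotientGroup.eq, mem_subgroupOf]
      exact mem_of_mem_of_eq (htZ (h.comm_mem (inv_mem b.2) (inv_mem a.2)))
        (by simp only [commutatorElement_def, coe_mul, InvMemClass.coe_inv]; group) }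
  set φ := sectionAct h.norm hn with hφ
  let _ : DistribMulAction ↥(centralizer ({t} : Set G)) (Additive (K ⧸ Z.subgroupOf K)) :=
    { smul := fun g v => Additive.ofMul (φ g v.toMul)
      one_smul := fun v => by show Additive.ofMul (φ 1 v.toMul) = v; rw [map_one]; rfl
      mul_smul := fun g g' v => by
        show Additive.ofMul (φ (g * g') v.toMul) = Additive.ofMul (φ g (φ g' v.toMul))
        rw [map_mul]; rfl
      smul_zero := fun g => by show Additive.ofMul (φ g 1) = 0; rw [map_one]; rfl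
      smul_add := fun g v w => by
        show Additive.ofMul (φ g (v.toMul * w.toMul)) = _
        rw [map_mul]; rfl }
  refine ⟨Additive (K ⧸ Z.subgroupOf K), inferInstance, inferInstance, inferInstance,
    fun x => if hx : x ∈ K then Additive.ofMul ((⟨x, hx⟩ : K) : K ⧸ Z.subgroupOf K) else 0,
    fun x hx y hy => ?_, fun v => ?_, fun x hx => ?_, fun g x hx => ?_, fun v => ?_⟩
  · simp only [dif_pos hx, dif_pos hy, dif_pos (mul_mem hx hy)]; rfl
  · obtain ⟨x, hx⟩ := QuotientGroup.mk_surjective v.toMul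
    exact ⟨x, x.2, by simp only [dif_pos x.2]; rw [show (⟨x, x.2⟩ : K) = x from rfl, hx]; rfl⟩
  · simp only [dif_pos hx]
    exact (QuotientGroup.eq_one_iff (⟨x, hx⟩ : K)).trans mem_subgroupOf
  · simp only [dif_pos hx, dif_pos (conj_mem_of_le_normalizer h.norm g.2 hx)]; rfl
  · obtain ⟨x, hx⟩ := QuotientGroup.mk_surjective v.toMul
    show v.toMul * v.toMul = 1
    rw [← hx, ← QuotientGroup.mk_mul, QuotientGroup.eq_one_iff, mem_subgroupOf]
    exact htZ (h.sq_mem x.2)

end Crit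

namespace Pair

variable [Finite G] {m : ℕ} {B K : Subgroup G} {t : G} {lam : Subgroup G} {β : G}

theorem wt_conj {p : ℕ} (h : Pair p m B K t) (hβ : β ∈ B) {a : G} (ha : a ∈ wt B K t lam) :
    β * a * β⁻¹ ∈ wt B K t lam := conj_mem_of_le_normalizer h.wt_norm hβ ha

theorem conj_nmem {p : ℕ} (h : Pair p m B K t) (hβ : β ∈ B) {a : G} (ha : a ∉ zpowers t) :
    β * a * β⁻¹ ∉ zpowers t := fun e =>
  ha ((mem_normalizer_iff.mp (h.crit.norm_zpowers (h.Bt hβ)) a).mpr e)

theorem wt_norm3 (h : Pair 3 m B K t) (hl : Hyp B lam β) {a : G} (ha : a ∈ wt B K t lam) :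
    a * (β * a * β⁻¹) * (β * (β * a * β⁻¹) * β⁻¹) ∈ zpowers t := by
  have hb := h.wt_conj hl.mem ha
  have hc := h.wt_conj hl.mem hb
  have h3 : β⁻¹ = β * β := by
    rw [inv_eq_iff_mul_eq_one, ← mul_assoc, ← pow_three', h.ea.2 β hl.mem]
  have h4 : β * (β * (β * a * β⁻¹) * β⁻¹) * β⁻¹ = a := by
    calc β * (β * (β * a * β⁻¹) * β⁻¹) * β⁻¹ = β * (β * β) * a * (β * (β * β))⁻¹ := by group
      _ = a := by rw [← h3]; group
  refine h.wt_fix' (by norm_num) hl (mul_mem (mul_mem ha hb) hc) (mem_of_mem_of_eq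
    (h.crit.comm_mem (inv_mem (h.wt_K (by norm_num) hl.le (mul_mem hb hc)))
      (inv_mem (h.wt_K (by norm_num) hl.le ha))) ?_)
  rw [show β * (a * (β * a * β⁻¹) * (β * (β * a * β⁻¹) * β⁻¹)) * β⁻¹ = (β * a * β⁻¹) *
    (β * (β * a * β⁻¹) * β⁻¹) * (β * (β * (β * a * β⁻¹) * β⁻¹) * β⁻¹) by group, h4]
  generalize β * (β * a * β⁻¹) * β⁻¹ = c
  generalize β * a * β⁻¹ = b
  simp only [commutatorElement_def]; group

theorem wt_sq (h : Pair 3 (m + 2) B K t) (hR : RankBd 3 (m + 2) G) (hl : Hyp B lam β) {a : G}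
    (ha : a ∈ wt B K t lam) (hat : a ∉ zpowers t) : a * a = t := by
  have aK := h.wt_K (by norm_num) hl.le ha
  refine (h.crit.sq a aK).resolve_left fun h1 => ?_
  have hb := h.wt_conj hl.mem ha
  have bK := h.wt_K (by norm_num) hl.le hb
  have hn := h.wt_norm3 hl ha
  have b1 := iso_conj_sq h1 β
  have c1 := iso_conj_sq b1 β
  have cK := h.wt_K (by norm_num) hl.le (h.wt_conj hl.mem hb)
  have hbt := h.conj_nmem hl.mem hat
  have hab : a⁻¹ * (β * a * β⁻¹) ∉ zpowers t := fun e => hat (h.wt_fix' (by norm_num) hl ha e)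
  generalize β * (β * a * β⁻¹) * β⁻¹ = c at hn c1 cK
  generalize β * a * β⁻¹ = b at hn b1 hb bK hbt hab
  have hc : Commute a b := by
    refine h9_comm_of_sq h1 b1 ?_
    have e : a * b = a * b * c * c := by rw [mul_assoc, c1, mul_one]
    rw [e]
    rcases (mem_zpowers_invol h.crit.t2).mp hn with e | e <;> rw [e]
    · rw [one_mul, c1]
    · rw [← h.crit.ct cK]
      calc c * t * (c * t) = c * (t * c) * t := by group
        _ = (c * c) * (t * t) := by rw [← h.crit.ct cK]; group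
        _ = 1 := by rw [c1, h.crit.t2, one_mul]
  have cz : ∀ {g s : G}, Commute s g → zpowers s ≤ centralizer (zpowers g : Set G) := fun hc =>
    zpowers_le.mpr (by rw [centralizer_zpowers]; exact mem_centralizer_singleton_iff.mpr hc)
  obtain ⟨e1, d1⟩ := ea_zpowers_sup h.crit.ea_zt (y := a) (by rw [pow_two, h1])
    (by rw [centralizer_zpowers]; exact h.crit.Kt aK) hat
  obtain ⟨e2, d2⟩ := ea_zpowers_sup e1 (y := b) (by rw [pow_two, b1])
    (le_centralizer_iff.mp (sup_le (cz hc) (cz (h.crit.ct bK).symm)) (mem_zpowers b))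
    (fun e => (h.crit.mem_sup_cases h.crit.zt_le (mem_zpowers t) aK e).elim hbt hab)
  rw [d1, h.crit.card_zt] at d2
  have := hR.not_card (ea_mono h.ea hl.le) (by omega) (hl.card h.ea h.card) e2
    ((sup_le (zpowers_le.mpr hb) (sup_le (zpowers_le.mpr ha) (zpowers_le.mpr h.t_mem))).trans
      ((h.wt_le (by norm_num) hl.le).trans inf_le_right)) (r := 2) d2
  omega

theorem wt_anti (h : Pair 3 (m + 2) B K t) (hR : RankBd 3 (m + 2) G) (hl : Hyp B lam β) {a : G}
    (ha : a ∈ wt B K t lam) (hat : a ∉ zpowers t) : Anti t a (β * a * β⁻¹) := by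
  have hb := h.wt_conj hl.mem ha
  exact h.crit.anti_of_sq (h.wt_K (by norm_num) hl.le ha) (h.wt_K (by norm_num) hl.le hb)
    (h.wt_sq hR hl ha hat) (h.wt_sq hR hl hb (h.conj_nmem hl.mem hat))
    (h.wt_sq hR hl (mul_mem ha hb) fun e => h.conj_nmem hl.mem (h.conj_nmem hl.mem hat)
      ((mul_mem_cancel_left e).mp (h.wt_norm3 hl ha)))

theorem wt_small (h : Pair 3 (m + 2) B K t) (hR : RankBd 3 (m + 2) G) (hl : Hyp B lam β) {a k : G}
    (ha : a ∈ wt B K t lam) (hat : a ∉ zpowers t) (hk : k ∈ wt B K t lam) :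
    k ∈ zpowers t ∨ a⁻¹ * k ∈ zpowers t ∨ (β * a * β⁻¹)⁻¹ * k ∈ zpowers t ∨
      (β * (β * a * β⁻¹) * β⁻¹)⁻¹ * k ∈ zpowers t := by
  by_contra hne
  push Not at hne
  obtain ⟨n1, n2, n3, n4⟩ := hne
  have hb := h.wt_conj hl.mem ha
  have hn := h.wt_norm3 hl ha
  have hbt := h.conj_nmem hl.mem hat
  have hct := h.conj_nmem hl.mem hbt
  have wK := fun {x} (hx : x ∈ wt B K t lam) => h.wt_K (by norm_num) hl.le hx
  generalize β * (β * a * β⁻¹) * β⁻¹ = c at hn hct n4
  generalize β * a * β⁻¹ = b at hn hb hbt n3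
  exact h.crit.three_indep (wK ha) (wK hb) (wK hk) (h.wt_sq hR hl ha hat) (h.wt_sq hR hl hb hbt)
    (h.wt_sq hR hl hk n1)
    (h.wt_sq hR hl (mul_mem ha hb) fun e => hct ((mul_mem_cancel_left e).mp hn))
    (h.wt_sq hR hl (mul_mem ha hk) fun e => n2 (mem_of_mem_of_eq
      (mul_mem (inv_mem (h.crit.sq_mem (wK ha))) e) (by group)))
    (h.wt_sq hR hl (mul_mem hb hk) fun e => n3 (mem_of_mem_of_eq
      (mul_mem (inv_mem (h.crit.sq_mem (wK hb))) e) (by group)))
    (h.wt_sq hR hl (mul_mem ha (mul_mem hb hk)) fun e => n4 (mem_of_mem_of_eq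
      (mul_mem (inv_mem hn) e) (by group)))

theorem mem_center (h : Pair 3 (m + 2) B K t) (hR : RankBd 3 (m + 2) G) {r : G} (hr : r ∈ K)
    (hrB : r ∈ centralizer (B : Set G)) : r ∈ centralizer (K : Set G) := by
  have hinv := fun {s : G} (hs : s ∈ K) (hsB : s ∈ centralizer (B : Set G)) (h2 : s * s = 1) =>
    hR.invol_mem (by omega) h.ea h.card h.crit.t1 h.crit.t2 h.Bt h2 (h.crit.ct hs) hsB
  have hzt : ∀ s ∈ zpowers t, ∀ k ∈ K, Commute s k := fun s hs k hk => by
    rcases (mem_zpowers_invol h.crit.t2).mp hs with rfl | rfl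
    exacts [Commute.one_left k, (h.crit.ct hk).symm]
  have h1 : ∀ r' ∈ K, r' ∈ centralizer (B : Set G) → Commute r r' := by
    intro r' hr' hr'B
    refine (h.crit.comm_or_anti hr hr').resolve_right fun hanti => ?_
    have s1 : r * r = t := (h.crit.sq r hr).resolve_left fun e =>
      h.crit.not_commute hanti (hzt r (hinv hr hrB e) r' hr')
    have s2 : r' * r' = t := (h.crit.sq r' hr').resolve_left fun e =>
      h.crit.not_commute hanti (hzt r' (hinv hr' hr'B e) r hr).symm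
    obtain ⟨l1, -, β1, -, hl1, -, -, ⟨a, ha, hat⟩, -⟩ := h.exists_two_wt (by norm_num)
    have hb := h.wt_conj hl1.mem ha
    have cz : ∀ k ∈ K, k ∈ centralizer (zpowers t : Set G) := fun k hk => by
      rw [centralizer_zpowers]; exact h.crit.Kt hk
    have aK := h.wt_K (by norm_num) hl1.le ha
    have bK := h.wt_K (by norm_num) hl1.le hb
    obtain ⟨e1, c1⟩ := h.crit.ea_build h.crit.ea_zt hr hr' (cz _ aK) (cz _ bK) (cz _ hr) (cz _ hr')
      (h.wt_sq hR hl1 ha hat) (h.wt_sq hR hl1 hb (h.conj_nmem hl1.mem hat)) s1 s2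
      (h.wt_anti hR hl1 ha hat) hanti
      (h.wt_comm_of (by norm_num) hl1 ha hr (hrB β1 hl1.mem))
      (h.wt_comm_of (by norm_num) hl1 ha hr' (hr'B β1 hl1.mem))
      (h.wt_comm_of (by norm_num) hl1 hb hr (hrB β1 hl1.mem))
      (h.wt_comm_of (by norm_num) hl1 hb hr' (hr'B β1 hl1.mem))
    rw [h.crit.card_zt] at c1
    have := hR.not_card (ea_mono h.ea hl1.le) (by omega) (hl1.card h.ea h.card) e1
      (sup_le (zpowers_le.mpr (mul_mem (h.wt_C (by norm_num) hl1.le hb)
        (centralizer_mono hl1.le hr'B))) (sup_le (zpowers_le.mpr (mul_mem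
        (h.wt_C (by norm_num) hl1.le ha) (centralizer_mono hl1.le hrB)))
        (zpowers_le.mpr (centralizer_mono hl1.le h.tB)))) (r := 2) c1
    omega
  have h2 : K ≤ centralizer {r} := by
    refine (h.cop (by norm_num)).le_of_hyperplane h.ea (ne_bot_of_pow_le_card h.card.ge)
      fun lam hle hi k hk => ?_
    obtain ⟨β, hβ, hn⟩ : ∃ β ∈ B, β ∉ lam := by
      by_contra hne
      push Not at hne
      rw [relIndex_eq_one.mpr hne] at hi
      omega
    obtain ⟨a, ha, r', hr', hr'B, rfl⟩ :=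
      h.wt_dec (by norm_num) hle (mem_inf.mp hk).1 (mem_inf.mp hk).2
    exact mem_centralizer_singleton_iff.mpr (Commute.mul_left (h.wt_comm_of (by norm_num)
      (hyp_of_relIndex h.ea hle hi hβ hn) ha hr (hrB β hβ)) (h1 r' hr' hr'B).symm)
  exact fun k hk => mem_centralizer_singleton_iff.mp (h2 hk)

theorem center_le (h : Pair 3 (m + 2) B K t) (hR : RankBd 3 (m + 2) G) {z : G} (hz : z ∈ K)
    (hzK : z ∈ centralizer (K : Set G)) : z ∈ centralizer (B : Set G) := by
  intro β hβ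
  have hn : B ≤ normalizer ((K ⊓ centralizer (K : Set G) : Subgroup G) : Set G) :=
    le_normalizer_inf (h.Bt.trans h.crit.norm) (le_normalizer_centralizer (h.Bt.trans h.crit.norm))
  have h1 := hR.le_zpowers (by norm_num) h.ea h.card h.crit.t1 h.crit.t2 h.Bt
    (ea_omegaOne_center K) ((omegaOne_le _).trans (inf_le_left.trans h.crit.Kt))
    (hn.trans (normalizer_le_normalizer_omegaOne _))
  have hβt := mem_centralizer_singleton_iff.mp (h.Bt hβ)
  have hzz := mem_inf.mpr ⟨hz, hzK⟩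
  have h2 := conj_mem_of_le_normalizer hn hβ hzz
  refine commute_of_mod (odd_orderOf (by norm_num) (h.ea.2 β hβ)) h.crit.t2 hβt
    (h1 (mem_omegaOne (mul_mem (inv_mem hzz) h2) ?_))
  have h3 : β * (z * z) * β⁻¹ = z * z := by
    rcases h.crit.sq z hz with e | e <;> rw [e]
    · simp
    · rw [hβt, mul_inv_cancel_right]
  have h4 : Commute (β * z * β⁻¹) z := hzK _ (mem_inf.mp h2).1
  rw [h4.symm.inv_left.mul_pow, pow_two, pow_two, conj_mul, h3]; group

end Pair

end Cfsg.Lib.Quad.KM
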