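import Cfsg.Agent.Lib.Quad.KMRank
import Cfsg.Agent.Lib.PGroup.CoprimeAut

/-!
Klinger–Mason argument: weight subgroups of the critical subgroup.
-/

set_option autoImplicit false

open Subgroup
open scoped commutatorElement

namespace Cfsg.Lib.Quad.KM

variable {G : Type*} [Group G]

/-- `x` and `y` anticommute with respect to `t` -/
def Anti (t x y : G) : Prop := x * y = y * x * t

namespace Crit

variable {K : Subgroup G} {t : G}

theorem ct (h : Crit K t) {x : G} (hx : x ∈ K) : x * t = t * x :=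
  mem_centralizer_singleton_iff.mp (h.Kt hx)

theorem norm_zpowers (_h : Crit K t) :
    centralizer ({t} : Set G) ≤ normalizer (zpowers t : Set G) := by
  rw [← centralizer_zpowers]; exact centralizer_le_normalizer _

theorem zt_le (h : Crit K t) : zpowers t ≤ K := zpowers_le.mpr h.tK

theorem sq_mem (h : Crit K t) {x : G} (hx : x ∈ K) : x * x ∈ zpowers t :=
  (mem_zpowers_invol h.t2).mpr (h.sq x hx)

theorem comm_mem (h : Crit K t) {x y : G} (hx : x ∈ K) (hy : y ∈ K) : ⁅x, y⁆ ∈ zpowers t :=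
  mem_of_mem_of_eq (mul_mem (mul_mem (h.sq_mem (mul_mem hx hy))
    (conj_mem_of_le_normalizer' h.norm_zpowers (h.Kt hy) (inv_mem (h.sq_mem hx))))
    (inv_mem (h.sq_mem hy))) (by simp only [commutatorElement_def]; group)

theorem comm_or_anti (h : Crit K t) {x y : G} (hx : x ∈ K) (hy : y ∈ K) :
    Commute x y ∨ Anti t x y := by
  rcases (mem_zpowers_invol h.t2).mp (h.comm_mem hx hy) with e | e
  · exact Or.inl (commutatorElement_eq_one_iff_mul_comm.mp e)
  · right
    rw [Anti, h.ct (mul_mem hy hx), ← e, commutatorElement_def]; group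

theorem not_commute (h : Crit K t) {x y : G} (ha : Anti t x y) : ¬ Commute x y := fun hc =>
  h.t1 (by rw [Anti, hc.eq] at ha; exact (left_eq_mul.mp ha))

theorem anti_symm (h : Crit K t) {x y : G} (ha : Anti t x y) : Anti t y x := by
  rw [Anti] at ha ⊢
  rw [ha, mul_assoc, h.t2, mul_one]

theorem anti_mul_of_commute {x y z : G} (h1 : Commute x y) (h2 : Anti t x z) :
    Anti t x (y * z) := by
  rw [Anti] at h2 ⊢
  rw [← mul_assoc, h1.eq, mul_assoc, h2]; group

theorem anti_mul_of_commute' (h : Crit K t) {x y z : G} (hz : z ∈ K) (h1 : Anti t x y)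
    (h2 : Commute x z) : Anti t x (y * z) := by
  rw [Anti] at h1 ⊢
  rw [← mul_assoc, h1, mul_assoc, ← h.ct hz, ← mul_assoc, mul_assoc y, h2.eq]; group

theorem commute_mul_of_anti (h : Crit K t) {x y z : G} (hz : z ∈ K) (h1 : Anti t x y)
    (h2 : Anti t x z) : Commute x (y * z) := by
  rw [Anti] at h1 h2
  show x * (y * z) = y * z * x
  rw [← mul_assoc, h1, mul_assoc, ← h.ct hz, ← mul_assoc, mul_assoc y, h2, mul_assoc, mul_assoc,
    h.t2]; group

theorem sq_mul_of_commute (h : Crit K t) {x y : G} (hx : x * x = t) (hy : y * y = t)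
    (hc : Commute x y) : x * y * (x * y) = 1 := by
  calc x * y * (x * y) = x * (y * x) * y := by group
    _ = (x * x) * (y * y) := by rw [← hc.eq]; group
    _ = 1 := by rw [hx, hy, h.t2]

theorem anti_of_sq (h : Crit K t) {x y : G} (hxK : x ∈ K) (hyK : y ∈ K) (hx : x * x = t)
    (hy : y * y = t) (hxy : x * y * (x * y) = t) : Anti t x y :=
  (h.comm_or_anti hxK hyK).resolve_left fun hc => h.t1 (hxy ▸ h.sq_mul_of_commute hx hy hc)

theorem commute_of_sq (h : Crit K t) {x y : G} (hxK : x ∈ K) (hyK : y ∈ K) (hx : x * x = 1)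
    (hy : y * y = 1) (hxy : x * y * (x * y) = 1) : Commute x y := h9_comm_of_sq hx hy hxy

theorem three_indep (h : Crit K t) {x y z : G} (hx : x ∈ K) (hy : y ∈ K) (hz : z ∈ K)
    (e1 : x * x = t) (e2 : y * y = t) (e3 : z * z = t) (e4 : x * y * (x * y) = t)
    (e5 : x * z * (x * z) = t) (e6 : y * z * (y * z) = t)
    (e7 : x * (y * z) * (x * (y * z)) = t) : False :=
  h.not_commute (h.anti_of_sq hx (mul_mem hy hz) e1 e6 e7)
    (h.commute_mul_of_anti hz (h.anti_of_sq hx hy e1 e2 e4) (h.anti_of_sq hx hz e1 e3 e5))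

theorem norm_of_mem [Finite G] (h : Crit K t) {S : Subgroup G} (hS : S ≤ K) (ht : t ∈ S) :
    K ≤ normalizer (S : Set G) := fun k hk => pg_mem_normalizer_of_conj_mem fun s hs =>
  mem_of_mem_of_eq (mul_mem (zpowers_le.mpr ht (h.comm_mem hk (hS hs))) hs)
    (by simp only [commutatorElement_def]; group)

theorem card_zt (h : Crit K t) : Nat.card (zpowers t) = 2 := by
  rw [Nat.card_zpowers]; exact h9_orderOf_eq_two_iff.mpr ⟨h.t1, h.t2⟩

theorem ea_zt (h : Crit K t) : IsElementaryAbelian 2 (zpowers t) :=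
  ea_zpowers (by rw [pow_two, h.t2])

theorem card_sup [Finite G] (h : Crit K t) {S : Subgroup G} (hS : S ≤ K) (ht : t ∈ S) {x : G}
    (hx : x ∈ K) (hxS : x ∉ S) : Nat.card ↥(zpowers x ⊔ S) = 2 * Nat.card S :=
  pg_card_zpowers_sup (h.norm_of_mem hS ht hx) hxS
    (by rw [pow_two]; exact zpowers_le.mpr ht (h.sq_mem hx))

theorem exists_two [Finite G] (h : Crit K t) {U : Subgroup G} (hU : U ≤ K) (ht : t ∈ U)
    (hc : 16 ≤ Nat.card U) {x : G} (hx : x ∈ U) (hxt : x ∉ zpowers t) :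
    ∃ y ∈ U, ∃ z ∈ U, y ∉ zpowers x ⊔ zpowers t ∧ z ∉ zpowers y ⊔ (zpowers x ⊔ zpowers t) := by
  have key : ∀ S ≤ U, Nat.card S < 16 → ∃ y ∈ U, y ∉ S := by
    intro S hS hlt
    by_contra hne
    push Not at hne
    have := card_le_of_le (show U ≤ S from hne)
    omega
  have c1 := h.card_sup h.zt_le (mem_zpowers t) (hU hx) hxt
  have l1 : zpowers x ⊔ zpowers t ≤ U := sup_le (zpowers_le.mpr hx) (zpowers_le.mpr ht)
  rw [h.card_zt] at c1
  obtain ⟨y, hy, hy1⟩ := key _ l1 (by omega)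
  have c2 := h.card_sup (l1.trans hU) (mem_sup_right (mem_zpowers t)) (hU hy) hy1
  obtain ⟨z, hz, hz1⟩ := key _ (sup_le (zpowers_le.mpr hy) l1) (by omega)
  exact ⟨y, hy, z, hz, hy1, hz1⟩

theorem exists_invol [Finite G] (h : Crit K t) {U : Subgroup G} (hU : U ≤ K) (ht : t ∈ U)
    (hc : 16 ≤ Nat.card U) : ∃ u ∈ U, u ∉ zpowers t ∧ u * u = 1 := by
  by_contra hne
  push Not at hne
  have hs : ∀ u ∈ U, u ∉ zpowers t → u * u = t := fun u hu h1 =>
    (h.sq u (hU hu)).resolve_left (hne u hu h1)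
  obtain ⟨x, hx, hxt⟩ : ∃ x ∈ U, x ∉ zpowers t := by
    by_contra hne
    push Not at hne
    have := card_le_of_le (show U ≤ zpowers t from hne)
    rw [h.card_zt] at this
    omega
  obtain ⟨y, hy, z, hz, hy1, hz1⟩ := h.exists_two hU ht hc hx hxt
  have mx : x ∈ zpowers x ⊔ zpowers t := mem_sup_left (mem_zpowers x)
  have my : y ∈ zpowers y ⊔ (zpowers x ⊔ zpowers t) := mem_sup_left (mem_zpowers y)
  refine h.three_indep (hU hx) (hU hy) (hU hz) (hs x hx hxt)
    (hs y hy fun e => hy1 (mem_sup_right e))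
    (hs z hz fun e => hz1 (mem_sup_right (mem_sup_right e)))
    (hs _ (mul_mem hx hy) fun e => hy1 ((mul_mem_cancel_left mx).mp (mem_sup_right e)))
    (hs _ (mul_mem hx hz) fun e => hz1 ((mul_mem_cancel_left (mem_sup_right mx)).mp
      (mem_sup_right (mem_sup_right e))))
    (hs _ (mul_mem hy hz) fun e => hz1 ((mul_mem_cancel_left my).mp
      (mem_sup_right (mem_sup_right e))))
    (hs _ (mul_mem hx (mul_mem hy hz)) fun e => hz1 ((mul_mem_cancel_left my).mp
      ((mul_mem_cancel_left (mem_sup_right mx)).mp (mem_sup_right (mem_sup_right e)))))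

theorem exists_commute [Finite G] (h : Crit K t) {U : Subgroup G} (hU : U ≤ K) (ht : t ∈ U)
    (hc : 16 ≤ Nat.card U) {x : G} (hx : x ∈ U) (hxt : x ∉ zpowers t) :
    ∃ v ∈ U, v ∉ zpowers x ⊔ zpowers t ∧ Commute x v := by
  obtain ⟨y, hy, z, hz, hy1, hz1⟩ := h.exists_two hU ht hc hx hxt
  rcases h.comm_or_anti (hU hx) (hU hy) with e1 | e1
  · exact ⟨y, hy, hy1, e1⟩
  rcases h.comm_or_anti (hU hx) (hU hz) with e2 | e2
  · exact ⟨z, hz, fun e => hz1 (mem_sup_right e), e2⟩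
  exact ⟨y * z, mul_mem hy hz, fun e => hz1 ((mul_mem_cancel_left
    (mem_sup_left (mem_zpowers y))).mp (mem_sup_right e)), h.commute_mul_of_anti (hU hz) e1 e2⟩

/-- Building elementary abelian subgroups from two commuting quaternion pairs. -/
theorem ea_build [Finite G] (h : Crit K t) {S : Subgroup G} (hS : IsElementaryAbelian 2 S)
    {a1 b1 a2 b2 : G} (ma2 : a2 ∈ K) (mb2 : b2 ∈ K)
    (ca1 : a1 ∈ centralizer (S : Set G)) (cb1 : b1 ∈ centralizer (S : Set G))
    (ca2 : a2 ∈ centralizer (S : Set G)) (cb2 : b2 ∈ centralizer (S : Set G))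
    (sa1 : a1 * a1 = t) (sb1 : b1 * b1 = t) (sa2 : a2 * a2 = t) (sb2 : b2 * b2 = t)
    (n1 : Anti t a1 b1) (n2 : Anti t a2 b2) (caa : Commute a1 a2) (cab : Commute a1 b2)
    (cba : Commute b1 a2) (cbb : Commute b1 b2) :
    IsElementaryAbelian 2 (zpowers (b1 * b2) ⊔ (zpowers (a1 * a2) ⊔ S)) ∧
      Nat.card ↥(zpowers (b1 * b2) ⊔ (zpowers (a1 * a2) ⊔ S)) = 4 * Nat.card S := by
  have x1 : Anti t b1 (a1 * a2) := h.anti_mul_of_commute' ma2 (h.anti_symm n1) cba
  have x2 : Anti t a1 (b1 * b2) := h.anti_mul_of_commute' mb2 n1 cab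
  have x3 : Anti t b2 (a1 * a2) := anti_mul_of_commute cab.symm (h.anti_symm n2)
  have x4 : Commute (a1 * a2) (b1 * b2) :=
    h.commute_mul_of_anti mb2 (h.anti_symm x1) (h.anti_symm x3)
  obtain ⟨e1, c1⟩ := ea_zpowers_sup hS (y := a1 * a2)
    (by rw [pow_two]; exact h.sq_mul_of_commute sa1 sa2 caa) (mul_mem ca1 ca2)
    (fun e => h.not_commute x1 (cb1 _ e).symm)
  have hc : ∀ g, g ∈ centralizer (S : Set G) → Commute (a1 * a2) g →
      g ∈ centralizer ((zpowers (a1 * a2) ⊔ S : Subgroup G) : Set G) := fun g h1 h2 =>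
    le_centralizer_iff.mp (sup_le (zpowers_le.mpr (by
      rw [centralizer_zpowers]; exact mem_centralizer_singleton_iff.mpr h2))
      (le_centralizer_iff.mp (zpowers_le.mpr h1))) (mem_zpowers g)
  obtain ⟨e2, c2⟩ := ea_zpowers_sup e1 (y := b1 * b2)
    (by rw [pow_two]; exact h.sq_mul_of_commute sb1 sb2 cbb) (hc _ (mul_mem cb1 cb2) x4)
    (fun e => h.not_commute x2 (hc a1 ca1 ((Commute.refl a1).mul_left caa.symm) _ e).symm)
  exact ⟨e2, by rw [c2, c1]; ring⟩

end Crit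

/-- `lam` is a hyperplane of `B` complemented by `β` -/
structure Hyp (B lam : Subgroup G) (β : G) : Prop where
  le : lam ≤ B
  mem : β ∈ B
  nmem : β ∉ lam
  sup : B ≤ zpowers β ⊔ lam

theorem Hyp.card [Finite G] {p : ℕ} [hp : Fact p.Prime] {B lam : Subgroup G} {β : G}
    (h : Hyp B lam β) (hB : IsElementaryAbelian p B) {n : ℕ} (hc : Nat.card B = p ^ (n + 1)) :
    Nat.card lam = p ^ n := by
  have := (ea_zpowers_sup (ea_mono hB h.le) (hB.2 β h.mem)
    (centralizer_mono h.le (ea_le_centralizer hB h.mem)) h.nmem).2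
  rw [le_antisymm (sup_le (zpowers_le.mpr h.mem) h.le) h.sup, hc, pow_succ'] at this
  exact (Nat.eq_of_mul_eq_mul_left hp.out.pos this).symm

theorem Hyp.centralizer {B lam : Subgroup G} {β : G} (h : Hyp B lam β) {k : G}
    (h1 : k ∈ centralizer (lam : Set G)) (h2 : β * k = k * β) : k ∈ centralizer (B : Set G) :=
  le_centralizer_iff.mp (h.sup.trans (sup_le (zpowers_le.mpr (by
      rw [centralizer_zpowers]; exact mem_centralizer_singleton_iff.mpr h2))
      (le_centralizer_iff.mp (zpowers_le.mpr h1)))) (mem_zpowers k)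

theorem hyp_of_relIndex [Finite G] {p : ℕ} [hp : Fact p.Prime] {B lam : Subgroup G} {β : G}
    (hB : IsElementaryAbelian p B) (hle : lam ≤ B) (hi : lam.relIndex B = p) (hβ : β ∈ B)
    (hn : β ∉ lam) : Hyp B lam β := by
  refine ⟨hle, hβ, hn, (eq_of_le_of_card_ge (sup_le (zpowers_le.mpr hβ) hle) ?_).ge⟩
  rw [(ea_zpowers_sup (ea_mono hB hle) (hB.2 β hβ)
    (centralizer_mono hle (ea_le_centralizer hB hβ)) hn).2, ← relIndex_mul_card hle, hi]

theorem Hyp.inf {B lam lam' : Subgroup G} {β : G} (h : Hyp B lam β) (hB : IsMulCommutative B)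
    (hle : lam' ≤ B) (hβ : β ∈ lam') : Hyp lam' (lam ⊓ lam') β := by
  refine ⟨inf_le_right, hβ, fun e => h.nmem (mem_inf.mp e).1, ?_⟩
  rw [← sup_inf_assoc_of_le_normalizer ((zpowers_le.mpr h.mem).trans
    (le_normalizer_of_le_of_comm hB h.le)) (zpowers_le.mpr hβ)]
  exact le_inf (hle.trans h.sup) le_rfl

theorem Hyp.change [Finite G] {p : ℕ} [hp : Fact p.Prime] {B lam : Subgroup G} {β γ : G}
    (h : Hyp B lam β) (hB : IsElementaryAbelian p B) (hγ : γ ∈ B) (hn : γ ∉ lam) :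
    Hyp B lam γ := by
  refine ⟨h.le, hγ, hn, (eq_of_le_of_card_ge (sup_le (zpowers_le.mpr hγ) h.le) ?_).ge⟩
  rw [(ea_zpowers_sup (ea_mono hB h.le) (hB.2 γ hγ)
    (centralizer_mono h.le (ea_le_centralizer hB hγ)) hn).2,
    ← (ea_zpowers_sup (ea_mono hB h.le) (hB.2 β h.mem)
    (centralizer_mono h.le (ea_le_centralizer hB h.mem)) h.nmem).2]
  exact card_le_of_le h.sup

theorem commute_of_conj_mul {β a t : G} (hβ : Odd (orderOf β)) (ht : t * t = 1)
    (hβt : β * t = t * β) (h : β * a * β⁻¹ = a * t) : β * a = a * β := by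
  apply h9_commute_of_odd_of_sq hβ
  show β * β * a = a * (β * β)
  calc β * β * a = β * (β * a * β⁻¹) * β := by group
    _ = β * (a * t) * β := by rw [h]
    _ = (β * a * β⁻¹) * (β * t) * β := by group
    _ = a * (t * t) * (β * β) := by rw [h, hβt]; group
    _ = _ := by rw [ht, mul_one]

theorem commute_of_mod {β a t : G} (hβ : Odd (orderOf β)) (ht : t * t = 1)
    (hβt : β * t = t * β) (h : a⁻¹ * (β * a * β⁻¹) ∈ zpowers t) : β * a = a * β := by
  rcases (mem_zpowers_invol ht).mp h with e | e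
  · rw [inv_mul_eq_one, eq_mul_inv_iff_mul_eq] at e; exact e.symm
  · exact commute_of_conj_mul hβ ht hβt (by rw [← e]; group)

theorem odd_orderOf {p : ℕ} [hp : Fact p.Prime] (hp2 : p ≠ 2) {β : G} (h : β ^ p = 1) :
    Odd (orderOf β) :=
  (hp.out.odd_of_ne_two hp2).of_dvd_nat (orderOf_dvd_of_pow_eq_one h)

theorem not_two_dvd_card [Finite G] {p : ℕ} [hp : Fact p.Prime] (hp2 : p ≠ 2) {B : Subgroup G}
    (hB : IsPGroup p B) : ¬ 2 ∣ Nat.card B := by
  obtain ⟨n, hn⟩ := hB.exists_card_eq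
  rw [hn]
  exact fun h => hp2 ((Nat.prime_dvd_prime_iff_eq Nat.prime_two hp.out).mp
    (Nat.prime_two.dvd_of_dvd_pow h)).symm

section Rank

variable [Finite G] {p m : ℕ} [hp : Fact p.Prime] {B : Subgroup G} {t : G}

theorem RankBd.not_card (hR : RankBd p m G) {C E : Subgroup G} {a r : ℕ}
    (hC : IsElementaryAbelian p C) (ha : a ≠ 0) (hc : Nat.card C = p ^ a)
    (hE : IsElementaryAbelian 2 E) (hEC : E ≤ centralizer (C : Set G))
    (hcE : Nat.card E = 2 ^ (r + 1)) : a + r ≤ m :=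
  hR C E a r hC (fun h => by
    rw [h, card_bot] at hc
    exact ha ((Nat.pow_eq_one.mp hc.symm).resolve_left hp.out.one_lt.ne')) hc hE hEC hcE

theorem RankBd.invol_mem (hR : RankBd p m G) (hm : m ≠ 0) (hB : IsElementaryAbelian p B)
    (hc : Nat.card B = p ^ m) (t1 : t ≠ 1) (t2 : t * t = 1) (Bt : B ≤ centralizer {t}) {s : G}
    (hs : s * s = 1) (hst : s * t = t * s) (hsB : s ∈ centralizer (B : Set G)) :
    s ∈ zpowers t := by
  by_contra hne
  obtain ⟨e1, e2⟩ := ea_zpowers_sup (p := 2) (ea_zpowers (x := t) (by rw [pow_two, t2])) (y := s)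
    (by rw [pow_two, hs]) (by rw [centralizer_zpowers]; exact mem_centralizer_singleton_iff.mpr hst)
    hne
  rw [Nat.card_zpowers, h9_orderOf_eq_two_iff.mpr ⟨t1, t2⟩] at e2
  have := hR.not_card hB hm hc e1 (sup_le (zpowers_le.mpr hsB) (zpowers_le.mpr fun b hb =>
    mem_centralizer_singleton_iff.mp (Bt hb))) (r := 1) e2
  omega

theorem RankBd.le_zpowers (hR : RankBd p (m + 2) G) (hp2 : p ≠ 2) (hB : IsElementaryAbelian p B)
    (hc : Nat.card B = p ^ (m + 2)) (t1 : t ≠ 1) (t2 : t * t = 1) (Bt : B ≤ centralizer {t})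
    {S : Subgroup G} (hS : IsElementaryAbelian 2 S) (hSt : S ≤ centralizer {t})
    (hBS : B ≤ normalizer (S : Set G)) : S ≤ zpowers t := by
  have eat : IsElementaryAbelian 2 (zpowers t) := ea_zpowers (by rw [pow_two, t2])
  have ct : Nat.card (zpowers t) = 2 := by
    rw [Nat.card_zpowers, h9_orderOf_eq_two_iff.mpr ⟨t1, t2⟩]
  have hcop : CoprimeAct B S := CoprimeAct.of_isPGroup (ea_isPGroup hB)
    (not_dvd_card_two hp2 (ea_isPGroup hS)) hBS
  have : S ≤ centralizer (B : Set G) := by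
    refine hcop.le_of_hyperplane hB (ne_bot_of_pow_le_card hc.ge) fun lam hle hi s hs β hβ => ?_
    obtain ⟨hs1, hs2⟩ := mem_inf.mp hs
    have hβt := mem_centralizer_singleton_iff.mp (Bt hβ)
    refine commute_of_mod (odd_orderOf hp2 (hB.2 β hβ)) t2 hβt ?_
    by_cases hst : s ∈ zpowers t
    · have : β * s = s * β := by
        rcases (mem_zpowers_invol t2).mp hst with rfl | rfl
        · simp
        · exact hβt
      rw [this]; simp
    by_contra hne
    have hs' : β * s * β⁻¹ ∈ S := hcop.conj_mem hβ hs1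
    have hcl : Nat.card lam = p ^ (m + 1) := by
      have := relIndex_mul_card hle
      rw [hi, hc, pow_succ'] at this
      exact Nat.eq_of_mul_eq_mul_left hp.out.pos this
    have hzt : ∀ g ∈ S, g ∈ centralizer (zpowers t : Set G) := fun g hg => by
      rw [centralizer_zpowers]; exact hSt hg
    obtain ⟨e1, e2⟩ := ea_zpowers_sup eat (hS.2 s hs1) (hzt s hs1) hst
    obtain ⟨e3, e4⟩ := ea_zpowers_sup e1 (hS.2 _ (mul_mem (inv_mem hs1) hs'))
      (le_centralizer_iff.mp (sup_le ((zpowers_le.mpr hs1).trans (ea_le_centralizer hS))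
        (le_centralizer_iff.mp hzt)) (mul_mem (inv_mem hs1) hs')) (by
      intro hm
      obtain ⟨a, ha, b, hb, e⟩ := (mem_sup_of_le_normalizer_right ((zpowers_le.mpr (hzt s hs1)).trans
        (centralizer_le_normalizer _))).mp hm
      rcases (mem_zpowers_invol (by rw [← pow_two]; exact hS.2 s hs1)).mp ha with rfl | rfl
      · exact hne (e ▸ by simpa using hb)
      · have hb' : β * a * β⁻¹ ∈ zpowers t := mem_of_mem_of_eq hb (by
          rw [← mul_right_inj a⁻¹, ← e, inv_eq_of_mul_eq_one_right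
            (by rw [← pow_two]; exact hS.2 a hs1)])
        apply hst
        have hn : β ∈ normalizer (zpowers t : Set G) := by
          refine centralizer_le_normalizer _ ?_
          rw [centralizer_zpowers]; exact Bt hβ
        exact (mem_normalizer_iff.mp hn a).mpr hb')
    rw [e2, ct] at e4
    have hβs : β * s * β⁻¹ ∈ centralizer (lam : Set G) := conj_mem_of_le_normalizer
      (le_normalizer_centralizer (le_normalizer_of_le_of_comm hB.1 hle)) hβ hs2
    have := hR.not_card (ea_mono hB hle) (by omega) hcl e3 (sup_le (zpowers_le.mpr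
      (mul_mem (inv_mem hs2) hβs)) (sup_le (zpowers_le.mpr hs2) (zpowers_le.mpr fun b hb =>
        mem_centralizer_singleton_iff.mp (Bt (hle hb))))) (r := 2) e4
    omega
  exact fun s hs => hR.invol_mem (by omega) hB hc t1 t2 Bt (by rw [← pow_two]; exact hS.2 s hs)
    (mem_centralizer_singleton_iff.mp (hSt hs)) (this hs)

end Rank

/-- A maximal pair with its critical subgroup. -/
structure Pair (p m : ℕ) (B K : Subgroup G) (t : G) : Prop where
  ea : IsElementaryAbelian p B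
  card : Nat.card B = p ^ m
  Bt : B ≤ centralizer {t}
  crit : Crit K t

theorem exists_pair [Finite G] {p m : ℕ} [hp : Fact p.Prime] (h2 : LocChar 2 G)
    (hR : RankBd p (m + 2) G) (hp2 : p ≠ 2) {B : Subgroup G} {t : G}
    (hB : IsElementaryAbelian p B) (hc : Nat.card B = p ^ (m + 2)) (t1 : t ≠ 1) (t2 : t * t = 1)
    (Bt : B ≤ centralizer {t}) : ∃ K, Pair p (m + 2) B K t := by
  obtain ⟨K, hK⟩ := exists_crit h2 t1 t2 fun S hS hSt hn =>
    hR.le_zpowers hp2 hB hc t1 t2 Bt hS hSt (Bt.trans hn)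
  exact ⟨K, hB, hc, Bt, hK⟩

/-- the weight subgroup attached to a hyperplane -/
def wt (B K : Subgroup G) (t : G) (lam : Subgroup G) : Subgroup G :=
  ⁅K ⊓ centralizer (lam : Set G), B⁆ ⊔ zpowers t

theorem commutator_inf_centralizer_le_mod [Finite G] {L A Z N : Subgroup G} (hL : L ≤ N)
    (hA : A ≤ N) (hN : N ≤ normalizer (Z : Set G)) (h : CoprimeAct A L)
    (hc : ⁅L, L⁆ ≤ Z) : (⁅L, A⁆ ⊔ Z ⊓ N) ⊓ centralizer (A : Set G) ≤ Z := by
  have := normal_subgroupOf_of_le_normalizer hN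
  set f := QuotientGroup.mk' (Z.subgroupOf N) with hf
  have hk : f.ker = Z.subgroupOf N := QuotientGroup.ker_mk' _
  have h1 : CoprimeAct (A.subgroupOf N) (L.subgroupOf N) :=
    ⟨fun a ha => pg_mem_normalizer_of_conj_mem fun x hx => h.conj_mem ha hx,
      by rw [card_subgroupOf_of_le hA, card_subgroupOf_of_le hL]; exact h.cop,
      by
        rcases h.solv with e | e
        · exact Or.inl (Group.isSolvable_of_isSolvable_injective (f := (subgroupOfEquivOfLe hA).toMonoidHom)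
            (subgroupOfEquivOfLe hA).injective)
        · exact Or.inr (Group.isSolvable_of_isSolvable_injective (f := (subgroupOfEquivOfLe hL).toMonoidHom)
            (subgroupOfEquivOfLe hL).injective)⟩
  have h2 := h1.map f
  have h3 : IsMulCommutative ((L.subgroupOf N).map f) := by
    rw [← le_centralizer_iff_isMulCommutative, ← commutator_eq_bot_iff_le_centralizer,
      commutator_map_eq_bot_iff, commutator_subgroupOf hL hL, hk]
    exact fun x hx => hc hx
  have h4 := commutator_inf_centralizer_eq_bot_of_comm h2.norm h2.cop h3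
  intro w hw
  obtain ⟨hw1, hw2⟩ := mem_inf.mp hw
  have hle : ⁅L, A⁆ ⊔ Z ⊓ N ≤ N := sup_le (h.commutator_le.trans hL) inf_le_right
  have h5 : f ⟨w, hle hw1⟩ ∈ ⁅(L.subgroupOf N).map f, (A.subgroupOf N).map f⁆ := by
    rw [← map_commutator, commutator_subgroupOf hL hA]
    have : (⁅L, A⁆ ⊔ Z ⊓ N).subgroupOf N ≤ (((⁅L, A⁆ : Subgroup G).subgroupOf N).map f).comap f := by
      rw [subgroupOf_sup (h.commutator_le.trans hL) inf_le_right]
      refine sup_le (le_comap_map _ _) fun z hz => ?_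
      have : f z = 1 := by rw [← MonoidHom.mem_ker, hk]; exact (mem_inf.mp hz).1
      rw [mem_comap, this]; exact one_mem _
    exact this hw1
  have h6 : f ⟨w, hle hw1⟩ ∈ centralizer (((A.subgroupOf N).map f : Subgroup _) : Set _) := by
    rintro _ ⟨a, ha, rfl⟩
    rw [← map_mul, ← map_mul]
    exact congrArg f (Subtype.ext (hw2 a ha))
  have h7 : f ⟨w, hle hw1⟩ = 1 := mem_bot.mp (h4 ▸ mem_inf.mpr ⟨h5, h6⟩)
  rw [← MonoidHom.mem_ker, hk] at h7
  exact h7

namespace Pair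

variable [Finite G] {p m : ℕ} [hp : Fact p.Prime] {B K : Subgroup G} {t : G}
  {lam : Subgroup G} {β : G}

theorem cop (h : Pair p m B K t) (hp2 : p ≠ 2) : CoprimeAct B K :=
  CoprimeAct.of_isPGroup (ea_isPGroup h.ea) (not_dvd_card_two hp2 h.crit.two)
    (h.Bt.trans h.crit.norm)

theorem cop_inf (h : Pair p m B K t) (hp2 : p ≠ 2) (hl : lam ≤ B) :
    CoprimeAct B (K ⊓ centralizer (lam : Set G)) :=
  (h.cop hp2).centralizer_act (le_normalizer_of_le_of_comm h.ea.1 hl)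

omit [Finite G] hp in
theorem t_mem (_h : Pair p m B K t) : t ∈ wt B K t lam := mem_sup_right (mem_zpowers t)

omit [Finite G] hp in
theorem tB (h : Pair p m B K t) : t ∈ centralizer (B : Set G) := fun _ hb =>
  mem_centralizer_singleton_iff.mp (h.Bt hb)

theorem wt_le (h : Pair p m B K t) (hp2 : p ≠ 2) (hl : lam ≤ B) :
    wt B K t lam ≤ K ⊓ centralizer (lam : Set G) :=
  sup_le (h.cop_inf hp2 hl).commutator_le
    (zpowers_le.mpr (mem_inf.mpr ⟨h.crit.tK, centralizer_mono hl h.tB⟩))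

theorem wt_K (h : Pair p m B K t) (hp2 : p ≠ 2) (hl : lam ≤ B) {a : G} (ha : a ∈ wt B K t lam) :
    a ∈ K := (mem_inf.mp (h.wt_le hp2 hl ha)).1

theorem wt_C (h : Pair p m B K t) (hp2 : p ≠ 2) (hl : lam ≤ B) {a : G} (ha : a ∈ wt B K t lam) :
    a ∈ centralizer (lam : Set G) := (mem_inf.mp (h.wt_le hp2 hl ha)).2

omit [Finite G] hp in
theorem wt_norm (h : Pair p m B K t) : B ≤ normalizer (wt B K t lam : Set G) :=
  le_normalizer_sup (le_normalizer_commutator_right _ _) (h.Bt.trans h.crit.norm_zpowers)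

theorem wt_fix (h : Pair p m B K t) (hp2 : p ≠ 2) (hl : lam ≤ B) {a : G} (ha : a ∈ wt B K t lam)
    (hc : a ∈ centralizer (B : Set G)) : a ∈ zpowers t := by
  refine commutator_inf_centralizer_le_mod (inf_le_left.trans h.crit.Kt) h.Bt h.crit.norm_zpowers
    (h.cop_inf hp2 hl) (commutator_le.mpr fun x hx y hy =>
      h.crit.comm_mem (mem_inf.mp hx).1 (mem_inf.mp hy).1) (mem_inf.mpr ⟨?_, hc⟩)
  rwa [inf_eq_left.mpr (h.crit.zt_le.trans h.crit.Kt)]

theorem wt_fix' (h : Pair p m B K t) (hp2 : p ≠ 2) (hl : Hyp B lam β) {a : G}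
    (ha : a ∈ wt B K t lam) (hc : a⁻¹ * (β * a * β⁻¹) ∈ zpowers t) : a ∈ zpowers t :=
  h.wt_fix hp2 hl.le ha (hl.centralizer (h.wt_C hp2 hl.le ha)
    (commute_of_mod (odd_orderOf hp2 (h.ea.2 β hl.mem)) h.crit.t2
      (mem_centralizer_singleton_iff.mp (h.Bt hl.mem)) hc))

theorem wt_dec (h : Pair p m B K t) (hp2 : p ≠ 2) (hl : lam ≤ B) {k : G} (hk : k ∈ K)
    (hkl : k ∈ centralizer (lam : Set G)) :
    ∃ a ∈ wt B K t lam, ∃ r ∈ K, r ∈ centralizer (B : Set G) ∧ a * r = k := by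
  obtain ⟨a, ha, r, hr, e⟩ := (h.cop_inf hp2 hl).exists_commutator_mul_centralizer
    (mem_inf.mpr ⟨hk, hkl⟩)
  exact ⟨a, mem_sup_left ha, r, (mem_inf.mp (mem_inf.mp hr).1).1, (mem_inf.mp hr).2, e⟩

theorem wt_comm_of (h : Pair p m B K t) (hp2 : p ≠ 2) (hl : Hyp B lam β) {a r : G}
    (ha : a ∈ wt B K t lam) (hr : r ∈ K) (hrβ : β * r = r * β) : Commute a r := by
  have hcop : CoprimeAct (zpowers β) (wt B K t lam) :=
    ((h.cop hp2).mono_right ((h.wt_le hp2 hl.le).trans inf_le_left) h.wt_norm).mono_left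
      (zpowers_le.mpr hl.mem)
  obtain ⟨n, hn, c, hc, rfl⟩ := hcop.exists_commutator_mul_centralizer ha
  have h1 : c ∈ zpowers t := h.wt_fix hp2 hl.le (mem_inf.mp hc).1 (hl.centralizer
    (h.wt_C hp2 hl.le (mem_inf.mp hc).1) ((mem_inf.mp hc).2 β (mem_zpowers β)))
  have h2 : ⁅⁅wt B K t lam, zpowers β⁆, zpowers r⁆ = ⊥ := by
    apply commutator_commutator_eq_bot_of_rotate
    · have : ⁅zpowers β, zpowers r⁆ = ⊥ := by
        rw [commutator_eq_bot_iff_le_centralizer, centralizer_zpowers, zpowers_le]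
        exact mem_centralizer_singleton_iff.mpr hrβ
      rw [this, commutator_bot_left]
    · rw [commutator_eq_bot_iff_le_centralizer]
      refine le_trans (commutator_le.mpr fun x hx y hy => h.crit.comm_mem (zpowers_le.mpr hr hx)
        (h.wt_K hp2 hl.le hy)) (zpowers_le.mpr ?_)
      exact centralizer_mono (zpowers_le.mpr hl.mem) h.tB
  refine Commute.mul_left (commutator_eq_bot_iff_forall.mp h2 n hn r (mem_zpowers r)) ?_
  rcases (mem_zpowers_invol h.crit.t2).mp h1 with rfl | rfl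
  · exact Commute.one_left r
  · exact (h.crit.ct hr).symm

theorem wt_comm (h : Pair p m B K t) (hp2 : p ≠ 2) (hl : Hyp B lam β) {lam' : Subgroup G}
    (hl' : lam' ≤ B) (hβ : β ∈ lam') {a a' : G} (ha : a ∈ wt B K t lam) (ha' : a' ∈ wt B K t lam') :
    Commute a a' := h.wt_comm_of hp2 hl ha (h.wt_K hp2 hl' ha') (h.wt_C hp2 hl' ha' β hβ)

theorem exists_wt (h : Pair p m B K t) (hp2 : p ≠ 2) (hβ : β ∈ B) (h1 : β ≠ 1) :
    ∃ lam, Hyp B lam β ∧ ∃ a ∈ wt B K t lam, a ∉ zpowers t := by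
  by_contra hne
  push Not at hne
  refine h1 (zpowers_eq_bot.mp (h.crit.faith _ ((zpowers_le.mpr hβ).trans h.Bt)
    (not_two_dvd_card hp2 ((ea_isPGroup h.ea).to_le (zpowers_le.mpr hβ))) ?_))
  refine (h.cop hp2).le_of_hyperplane h.ea (fun e => h1 (mem_bot.mp (e ▸ hβ)))
    fun lam hle hi k hk => ?_
  by_cases hm : β ∈ lam
  · exact centralizer_mono (zpowers_le.mpr hm) (mem_inf.mp hk).2
  obtain ⟨a, ha, r, -, hr, rfl⟩ := h.wt_dec hp2 hle (mem_inf.mp hk).1 (mem_inf.mp hk).2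
  exact centralizer_mono (zpowers_le.mpr hβ) (mul_mem (zpowers_le.mpr h.tB
    (hne lam (hyp_of_relIndex h.ea hle hi hβ hm) a ha)) hr)

theorem card_wt (h : Pair p m B K t) (hp2 : p ≠ 2) (hp3 : p ≠ 3) (hl : Hyp B lam β) {a : G}
    (ha : a ∈ wt B K t lam) (hat : a ∉ zpowers t) : 16 ≤ Nat.card (wt B K t lam) := by
  have h1 := pg_card_modEq_card_fixed (α := MulAut.conj β) (q := p)
    (by rw [← map_pow, h.ea.2 β hl.mem, map_one]) (H := wt B K t lam)
    (fun x hx => conj_mem_of_le_normalizer h.wt_norm hl.mem hx)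
  have h2 : wt B K t lam ⊓ (MulAut.conj β).toMonoidHom.eqLocus (MonoidHom.id G) = zpowers t := by
    refine le_antisymm (fun x hx => h.wt_fix hp2 hl.le (mem_inf.mp hx).1 (hl.centralizer
      (h.wt_C hp2 hl.le (mem_inf.mp hx).1) (mul_inv_eq_iff_eq_mul.mp (mem_inf.mp hx).2)))
      (zpowers_le.mpr (mem_inf.mpr ⟨h.t_mem, mul_inv_eq_iff_eq_mul.mpr (h.tB β hl.mem)⟩))
  rw [h2, h.crit.card_zt] at h1
  obtain ⟨n, hn⟩ := (h.crit.two.to_le ((h.wt_le hp2 hl.le).trans inf_le_left)).exists_card_eq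
  have h3 := card_le_of_le (sup_le (zpowers_le.mpr ha) (zpowers_le.mpr h.t_mem) :
    zpowers a ⊔ zpowers t ≤ wt B K t lam)
  rw [h.crit.card_sup h.crit.zt_le (mem_zpowers t) (h.wt_K hp2 hl.le ha) hat, h.crit.card_zt,
    hn] at h3
  rw [hn] at h1 ⊢
  have h6 : ¬ p ∣ 6 := fun hd => by
    rcases (hp.out.dvd_mul (m := 2) (n := 3)).mp hd with e | e
    · exact hp2 ((Nat.prime_dvd_prime_iff_eq hp.out Nat.prime_two).mp e)
    · exact hp3 ((Nat.prime_dvd_prime_iff_eq hp.out Nat.prime_three).mp e)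
  rcases n with _ | _ | _ | _ | n
  · omega
  · omega
  · exact absurd (((Nat.modEq_iff_dvd' (by norm_num)).mp h1.symm).trans (by norm_num)) h6
  · exact absurd (((Nat.modEq_iff_dvd' (by norm_num)).mp h1.symm).trans (by norm_num)) h6
  · exact Nat.pow_le_pow_right (n := 2) (by norm_num) (by omega : 4 ≤ n + 1 + 1 + 1 + 1)

theorem exists_two_wt (h : Pair p (m + 2) B K t) (hp2 : p ≠ 2) :
    ∃ (l1 l2 : Subgroup G) (β1 β2 : G), Hyp B l1 β1 ∧ Hyp B l2 β2 ∧ β2 ∈ l1 ∧
      (∃ a ∈ wt B K t l1, a ∉ zpowers t) ∧ (∃ a ∈ wt B K t l2, a ∉ zpowers t) := by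
  obtain ⟨β1, hβ1, h1⟩ := (nontrivial_iff_exists_ne_one B).mp
    ((nontrivial_iff_ne_bot B).mpr (ne_bot_of_pow_le_card h.card.ge))
  obtain ⟨l1, hl1, ha1⟩ := h.exists_wt hp2 hβ1 h1
  obtain ⟨β2, hβ2, h2⟩ := (nontrivial_iff_exists_ne_one l1).mp
    ((nontrivial_iff_ne_bot l1).mpr (ne_bot_of_pow_le_card (hl1.card h.ea h.card).ge))
  obtain ⟨l2, hl2, ha2⟩ := h.exists_wt hp2 (hl1.le hβ2) h2
  exact ⟨l1, l2, β1, β2, hl1, hl2, hβ2, ha1, ha2⟩

theorem eq_three (h : Pair p (m + 3) B K t) (hR : RankBd p (m + 3) G) (hp2 : p ≠ 2) : p = 3 := by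
  by_contra hp3
  obtain ⟨l1, l2, β1, β2, hl1, hl2, hβ, ⟨a1, ha1, n1⟩, ⟨a2, ha2, n2⟩⟩ := h.exists_two_wt hp2
  have key : ∀ (l : Subgroup G) (β : G), Hyp B l β → 16 ≤ Nat.card (wt B K t l) →
      ∃ u ∈ wt B K t l, ∃ v ∈ wt B K t l, u ∉ zpowers t ∧ u * u = 1 ∧
        v ∉ zpowers u ⊔ zpowers t ∧ Commute u v ∧ v * v = t := by
    intro l β hl hc
    have hU := (h.wt_le hp2 hl.le).trans inf_le_left
    obtain ⟨u, hu, hut, hu2⟩ := h.crit.exists_invol hU h.t_mem hc
    obtain ⟨v, hv, hvu, hcv⟩ := h.crit.exists_commute hU h.t_mem hc hu hut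
    refine ⟨u, hu, v, hv, hut, hu2, hvu, hcv, (h.crit.sq v (hU hv)).resolve_left fun hv2 => ?_⟩
    obtain ⟨e1, c1⟩ := ea_zpowers_sup h.crit.ea_zt (y := u) (by rw [pow_two, hu2])
      (by rw [centralizer_zpowers]; exact h.crit.Kt (hU hu)) hut
    obtain ⟨e2, c2⟩ := ea_zpowers_sup e1 (y := v) (by rw [pow_two, hv2])
      (le_centralizer_iff.mp (sup_le (zpowers_le.mpr (by
        rw [centralizer_zpowers]; exact mem_centralizer_singleton_iff.mpr hcv))
        (zpowers_le.mpr (by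
        rw [centralizer_zpowers]; exact mem_centralizer_singleton_iff.mpr (h.crit.ct (hU hv)).symm)))
        (mem_zpowers v)) hvu
    rw [c1, h.crit.card_zt] at c2
    have := hR.not_card (ea_mono h.ea hl.le) (by omega) (hl.card h.ea h.card) e2
      ((sup_le (zpowers_le.mpr hv) (sup_le (zpowers_le.mpr hu) (zpowers_le.mpr h.t_mem))).trans
        ((h.wt_le hp2 hl.le).trans inf_le_right)) (r := 2) c2
    omega
  obtain ⟨u1, hu1, v1, hv1, p1, p2, p3, p4, p5⟩ := key l1 β1 hl1 (h.card_wt hp2 hp3 hl1 ha1 n1)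
  obtain ⟨u2, hu2, v2, hv2, q1, q2, q3, q4, q5⟩ := key l2 β2 hl2 (h.card_wt hp2 hp3 hl2 ha2 n2)
  have hcm : ∀ a ∈ wt B K t l1, ∀ a' ∈ wt B K t l2, Commute a a' := fun a ha a' ha' =>
    (h.wt_comm hp2 hl2 hl1.le hβ ha' ha).symm
  have hint : ∀ a ∈ wt B K t l1, a ∈ wt B K t l2 → a ∈ zpowers t := fun a ha ha' =>
    h.wt_fix hp2 hl2.le ha' (hl2.centralizer (h.wt_C hp2 hl2.le ha') (h.wt_C hp2 hl1.le ha β2 hβ))
  have K1 := fun {a} (ha : a ∈ wt B K t l1) => h.wt_K hp2 hl1.le ha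
  have K2 := fun {a} (ha : a ∈ wt B K t l2) => h.wt_K hp2 hl2.le ha
  have cz : ∀ {g s : G}, Commute s g → zpowers s ≤ centralizer (zpowers g : Set G) := fun hc =>
    zpowers_le.mpr (by rw [centralizer_zpowers]; exact mem_centralizer_singleton_iff.mpr hc)
  have s1 : zpowers u1 ⊔ zpowers t ≤ wt B K t l1 :=
    sup_le (zpowers_le.mpr hu1) (zpowers_le.mpr h.t_mem)
  obtain ⟨e1, c1⟩ := ea_zpowers_sup h.crit.ea_zt (y := u1) (by rw [pow_two, p2])
    (by rw [centralizer_zpowers]; exact h.crit.Kt (K1 hu1)) p1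
  obtain ⟨e2, c2⟩ := ea_zpowers_sup e1 (y := u2) (by rw [pow_two, q2])
    (le_centralizer_iff.mp (sup_le (cz (hcm u1 hu1 u2 hu2)) (cz (h.crit.ct (K2 hu2)).symm))
      (mem_zpowers u2)) (fun e => q1 (hint u2 (s1 e) hu2))
  obtain ⟨e3, c3⟩ := ea_zpowers_sup e2 (y := v1 * v2)
    (by rw [pow_two]; exact h.crit.sq_mul_of_commute p5 q5 (hcm v1 hv1 v2 hv2))
    (le_centralizer_iff.mp (sup_le (cz ((hcm v1 hv1 u2 hu2).symm.mul_right q4))
      (sup_le (cz (p4.mul_right (hcm u1 hu1 v2 hv2)))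
      (cz (h.crit.ct (mul_mem (K1 hv1) (K2 hv2))).symm))) (mem_zpowers _)) (by
      intro e
      obtain ⟨a, ha, b, hb, e'⟩ := (mem_sup_of_le_normalizer_right
        ((zpowers_le.mpr (K2 hu2)).trans (h.crit.norm_of_mem (s1.trans fun _ => K1)
          (mem_sup_right (mem_zpowers t))))).mp e
      have ha2 : a ∈ wt B K t l2 := zpowers_le.mpr hu2 ha
      have h1 : b⁻¹ * v1 ∈ zpowers t := hint _ (mul_mem (inv_mem (s1 hb)) hv1)
        (mem_of_mem_of_eq (mul_mem ha2 (inv_mem hv2)) (by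
          rw [mul_inv_eq_iff_eq_mul, mul_assoc, ← e', ← (hcm b (s1 hb) a ha2).eq]; group))
      exact p3 ((mul_mem_cancel_left (inv_mem hb)).mp (mem_sup_right h1)))
  rw [c2, c1, h.crit.card_zt] at c3
  have hC := hl2.inf h.ea.1 hl1.le hβ
  have hw : ∀ {a}, a ∈ wt B K t l1 ∨ a ∈ wt B K t l2 →
      a ∈ centralizer ((l2 ⊓ l1 : Subgroup G) : Set G) := by
    rintro a (ha | ha)
    exacts [centralizer_mono inf_le_right (h.wt_C hp2 hl1.le ha),
      centralizer_mono inf_le_left (h.wt_C hp2 hl2.le ha)]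
  have := hR.not_card (ea_mono h.ea (inf_le_right.trans hl1.le)) (by omega)
    (hC.card (ea_mono h.ea hl1.le) (hl1.card h.ea h.card)) e3
    (sup_le (zpowers_le.mpr (mul_mem (hw (Or.inl hv1)) (hw (Or.inr hv2))))
      (sup_le (zpowers_le.mpr (hw (Or.inr hu2))) (s1.trans fun a ha => hw (Or.inl ha))))
    (r := 3) c3
  omega

end Pair

end Cfsg.Lib.Quad.KM
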