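import Cfsg.Agent.Lib.Quad.Stab

/-!
# Transvections normalizing a `p'`-group
-/

set_option autoImplicit false

namespace Cfsg.Lib.Quad
open Subgroup Cfsg.Lib Matrix
open scoped commutatorElement MatrixGroups

section Field
variable {F : Type*} [Field F] {M : Type*} [AddCommGroup M] [Module F M] {H : Type*} [Group H]

/-- `a` acts as the transvection `x ↦ x + f x • u`. -/
structure IsTransv (ρ : H →* Module.End F M) (a : H) (f : M →ₗ[F] F) (u : M) : Prop where
  u_ne : u ≠ 0
  f_ne : ∃ x, f x ≠ 0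
  fu : f u = 0
  apply : ∀ x, ρ a x = x + f x • u

/-- The stabilizer of a submodule. -/
def stabSub (ρ : H →* Module.End F M) (U : Submodule F M) : Subgroup H where
  carrier := {h | ∀ x, x ∈ U ↔ ρ h x ∈ U}
  one_mem' x := by simp
  mul_mem' {g h} hg hh x := by rw [rep_mul_apply, ← hg, ← hh]
  inv_mem' {g} hg x := by rw [hg (ρ g⁻¹ x), rep_apply_inv]

variable {ρ : H →* Module.End F M}

theorem le_stabSub {N : Subgroup H} {U : Submodule F M} (h : ∀ n ∈ N, ∀ x ∈ U, ρ n x ∈ U) :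
    N ≤ stabSub ρ U := fun n hn x =>
  ⟨h n hn x, fun hx => by simpa [rep_inv_apply] using h _ (inv_mem hn) _ hx⟩

theorem fixSub_anti {X Y : Subgroup H} (h : X ≤ Y) : fixSub ρ Y ≤ fixSub ρ X :=
  fun _ hx g hg => hx g (h hg)

theorem commSub_mono {X Y : Subgroup H} (h : X ≤ Y) : commSub ρ X ≤ commSub ρ Y :=
  Submodule.span_mono fun _ ⟨g, hg, x, e⟩ => ⟨g, h hg, x, e⟩

namespace IsTransv
variable {a b : H} {f g : M →ₗ[F] F} {u w : M}

theorem conj (h : IsTransv ρ a f u) (e : H) :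
    IsTransv ρ (e * a * e⁻¹) (f ∘ₗ ρ e⁻¹) (ρ e u) := by
  refine ⟨fun h0 => h.u_ne ?_, ?_, ?_, fun x => ?_⟩
  · rw [← rep_inv_apply ρ e u, h0, map_zero]
  · obtain ⟨x, hx⟩ := h.f_ne
    exact ⟨ρ e x, by simpa [rep_inv_apply] using hx⟩
  · simp [rep_inv_apply, h.fu]
  · rw [rep_mul_apply, rep_mul_apply, h.apply, map_add, rep_apply_inv, map_smul]; rfl

theorem inv_apply (h : IsTransv ρ a f u) (x : M) : ρ a⁻¹ x = x - f x • u := by
  conv_lhs => rw [show x = ρ a (x - f x • u) by simp [h.apply, h.fu]]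
  rw [rep_inv_apply]

theorem pow_apply (h : IsTransv ρ a f u) (k : ℕ) (x : M) : ρ (a ^ k) x = x + (k * f x) • u := by
  induction k with
  | zero => simp
  | succ k ih =>
    rw [pow_succ', rep_mul_apply, ih, h.apply]
    simp only [map_add, map_smul, h.fu, smul_zero, add_zero, Nat.cast_succ, add_mul, one_mul,
      add_smul]
    abel

theorem quadratic (h : IsTransv ρ a f u) : (ρ a - 1) * (ρ a - 1) = 0 := by
  ext x
  simp [h.apply, h.fu]

theorem ne_one (h : IsTransv ρ a f u) : a ≠ 1 := by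
  rintro rfl
  obtain ⟨x, hx⟩ := h.f_ne
  have := h.apply x
  simp [hx, h.u_ne] at this

theorem mem_commSub (h : IsTransv ρ a f u) {X : Subgroup H} (ha : a ∈ X) : u ∈ commSub ρ X := by
  obtain ⟨x, hx⟩ := h.f_ne
  have := (commSub ρ X).smul_mem (f x)⁻¹ (sub_mem_commSub ha x)
  simpa [h.apply, smul_smul, inv_mul_cancel₀ hx] using this

theorem apply_eq_zero (h : IsTransv ρ a f u) {x : M} (hx : ρ a x = x) : f x = 0 := by
  simpa [h.apply, h.u_ne] using hx

theorem mem_stabSub (h : IsTransv ρ a f u) {U : Submodule F M} (hu : u ∈ U) : a ∈ stabSub ρ U :=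
  fun x => by rw [h.apply, Submodule.add_mem_iff_left _ (U.smul_mem _ hu)]

theorem isNilpotent_of (ha : IsTransv ρ a f u) (hb : IsTransv ρ b g w)
    (h : f w = 0 ∨ g u = 0) : IsNilpotent (ρ (a⁻¹ * b) - 1) := by
  have hT : ∀ x, (ρ (a⁻¹ * b) - 1) x = g x • w - (f x + g x * f w) • u := fun x => by
    simp only [LinearMap.sub_apply, rep_mul_apply, hb.apply, ha.inv_apply, map_add, map_smul,
      Module.End.one_apply, smul_eq_mul]
    abel
  refine ⟨3, LinearMap.ext fun x => ?_⟩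
  simp only [pow_succ, pow_zero, one_mul, Module.End.mul_apply, hT]
  rcases h with h | h <;> simp [h, ha.fu, hb.fu]

end IsTransv

/-- `E ≅ SL(2, F)` acts naturally on `[M, E]`, which is complemented by the fixed points. -/
structure Plane (ρ : H →* Module.End F M) (E : Subgroup H) where
  /-- coordinates on the plane -/
  ev : (Fin 2 → F) →ₗ[F] M
  inj : Function.Injective ev
  /-- the isomorphism -/
  iso : E ≃* SL(2, F)
  act : ∀ (x : E) c, ρ x (ev c) = ev ((iso x : Matrix (Fin 2) (Fin 2) F) *ᵥ c)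
  range : LinearMap.range ev = commSub ρ E
  compl : IsCompl (commSub ρ E) (fixSub ρ E)

theorem eq_of_isCompl (hρ : Function.Injective ρ) {U C : Submodule F M} (h : IsCompl U C)
    {x y : H} (h1 : ∀ v ∈ U, ρ x v = ρ y v) (h2 : ∀ v ∈ C, ρ x v = ρ y v) : x = y := by
  refine hρ (LinearMap.ext fun v => ?_)
  obtain ⟨s, hs, t, ht, rfl⟩ := Submodule.mem_sup.mp (h.sup_eq_top ▸ Submodule.mem_top (x := v))
  rw [map_add, map_add, h1 s hs, h2 t ht]

namespace Plane
variable {E : Subgroup H} (P : Plane ρ E)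

theorem exists_ev {y : M} (hy : y ∈ commSub ρ E) : ∃ c, P.ev c = y := by
  rwa [← P.range] at hy

theorem ev_mem (c : Fin 2 → F) : P.ev c ∈ commSub ρ E := P.range.le ⟨c, rfl⟩

include P in
theorem card_commSub : Nat.card (commSub ρ E) = Nat.card F ^ 2 := by
  rw [← P.range, ← Nat.card_congr (LinearEquiv.ofInjective P.ev P.inj).toEquiv, Nat.card_fun]
  simp

theorem exists_apply_eq_aux {y : M} (hy : y ∈ commSub ρ E) (h0 : y ≠ 0) :
    ∃ e ∈ E, ρ e (P.ev (Pi.single 0 1)) = y := by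
  obtain ⟨c, rfl⟩ := P.exists_ev hy
  have hc : IsCoprime (c 0) (c 1) := by
    by_cases h : c 0 = 0
    · have h1 : c 1 ≠ 0 := fun h1 => h0 (by
        rw [show c = 0 by ext i; fin_cases i; exacts [h, h1], map_zero])
      exact ⟨0, (c 1)⁻¹, by simp [h1]⟩
    · exact ⟨(c 0)⁻¹, 0, by simp [h]⟩
  obtain ⟨A, h1, h2⟩ := hc.exists_SL2_col 0
  refine ⟨P.iso.symm A, (P.iso.symm A).2, ?_⟩
  rw [P.act, MulEquiv.apply_symm_apply]
  congr 1
  ext i
  fin_cases i <;> simp [h1, h2]

include P in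
theorem exists_apply_eq {y z : M} (hy : y ∈ commSub ρ E) (h0 : y ≠ 0) (hz : z ∈ commSub ρ E)
    (h1 : z ≠ 0) : ∃ e ∈ E, ρ e y = z := by
  obtain ⟨e, he, rfl⟩ := P.exists_apply_eq_aux hy h0
  obtain ⟨e', he', rfl⟩ := P.exists_apply_eq_aux hz h1
  exact ⟨e' * e⁻¹, mul_mem he' (inv_mem he), by rw [rep_mul_apply, rep_inv_apply]⟩

include P in
theorem mem_of_transv (hρ : Function.Injective ρ) {c : H} {h : M →ₗ[F] F} {t : M}
    (hc : IsTransv ρ c h t) (ht : t ∈ commSub ρ E) (hC : ∀ x ∈ fixSub ρ E, h x = 0) : c ∈ E := by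
  obtain ⟨τ, rfl⟩ := P.exists_ev ht
  have hev : ∀ v : Fin 2 → F, h (P.ev v) =
      v 0 * h (P.ev (Pi.single 0 1)) + v 1 * h (P.ev (Pi.single 1 1)) := fun v => by
    rw [← smul_eq_mul, ← smul_eq_mul, ← map_smul, ← map_smul, ← map_smul, ← map_smul, ← map_add,
      ← map_add]
    congr 2
    ext i
    fin_cases i <;> simp
  set α := h (P.ev (Pi.single 0 1))
  set β := h (P.ev (Pi.single 1 1))
  have h0 := hc.fu
  rw [hev] at h0
  let A : SL(2, F) := ⟨!![1 + τ 0 * α, τ 0 * β; τ 1 * α, 1 + τ 1 * β], by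
    rw [det_fin_two_of]; linear_combination h0⟩
  rw [eq_of_isCompl hρ P.compl (x := c) (y := P.iso.symm A)]
  · exact (P.iso.symm A).2
  · intro v hv
    obtain ⟨v, rfl⟩ := P.exists_ev hv
    rw [P.act, MulEquiv.apply_symm_apply, hc.apply, hev, ← map_smul, ← map_add]
    congr 1
    ext i
    fin_cases i <;> simp [A, mulVec, dotProduct, Fin.sum_univ_two] <;> ring
  · intro v hv
    rw [hv _ (P.iso.symm A).2, hc.apply, hC v hv, zero_smul, add_zero]

end Plane

end Field

section Prime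
variable {p : ℕ} [hp : Fact p.Prime] {M : Type*} [AddCommGroup M] [Module (ZMod p) M]
  {H : Type*} [Group H] {ρ : H →* Module.End (ZMod p) M}
  {a b c : H} {f g h : M →ₗ[ZMod p] ZMod p} {u w t : M}

theorem exists_plane (hρ : Function.Injective ρ) (ha : IsTransv ρ a f u) (hb : IsTransv ρ b g w)
    (h1 : f w ≠ 0) (h2 : g u ≠ 0) : ∃ P : Plane ρ (closure {a, b}),
      P.iso ⟨a, subset_closure (by simp)⟩ = upT 1 ∧
      P.iso ⟨b, subset_closure (by simp)⟩ = loT (g u * f w) := by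
  set E := closure ({a, b} : Set H) with hE
  have haE : a ∈ E := subset_closure (by simp)
  have hbE : b ∈ E := subset_closure (by simp)
  have hs := closure_pair_subtype_eq_top haE hbE rfl
  obtain ⟨hinj, φ, h3, h4, h5⟩ := exists_sl2_hom_of_pair (ρ.comp E.subtype) hs (e₁ := u)
    (e₂ := (f w)⁻¹ • w) (l := g u * f w) ha.u_ne (by simp [ha.apply, ha.fu])
    (by simp [ha.apply, smul_smul, h1]) (by simp [hb.apply, smul_smul, h1])
    (by simp [hb.apply, hb.fu])
  have hr : LinearMap.range (evPair (K := ZMod p) u ((f w)⁻¹ • w)) = commSub ρ E := by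
    apply le_antisymm
    · rintro _ ⟨c, rfl⟩
      exact add_mem (Submodule.smul_mem _ _ (ha.mem_commSub haE))
        (Submodule.smul_mem _ _ (Submodule.smul_mem _ _ (hb.mem_commSub hbE)))
    · refine commSub_closure_le ?_
      rintro _ (rfl | rfl) x
      · exact ⟨![f x, 0], by simp [evPair_apply, ha.apply]⟩
      · exact ⟨![0, g x * f w], by simp [evPair_apply, hb.apply, smul_smul, h1]⟩
  have hfix : ∀ x, x ∈ fixSub ρ E ↔ f x = 0 ∧ g x = 0 := fun x => by
    rw [hE, mem_fixSub_closure]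
    simp [ha.apply, hb.apply, ha.u_ne, hb.u_ne]
  have hc : IsCompl (commSub ρ E) (fixSub ρ E) := by
    rw [← hr]
    constructor
    · rw [Submodule.disjoint_def]
      rintro _ ⟨c, rfl⟩ hx
      rw [hfix] at hx
      simp [evPair_apply, ha.fu, hb.fu, h1, h2] at hx
      simp [evPair_apply, hx.1, hx.2]
    · rw [codisjoint_iff, eq_top_iff]
      intro x _
      refine Submodule.mem_sup.mpr ⟨_, ⟨![g x * (g u)⁻¹, f x], rfl⟩,
        x - evPair u ((f w)⁻¹ • w) ![g x * (g u)⁻¹, f x], ?_, by abel⟩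
      rw [hfix]
      simp [evPair_apply, ha.fu, hb.fu, h1, h2]
  have hbij : Function.Bijective φ := by
    constructor
    · rw [injective_iff_map_eq_one]
      intro x hx
      refine Subtype.ext (eq_of_isCompl hρ hc (fun v hv => ?_) fun v hv => ?_)
      · rw [← hr] at hv
        obtain ⟨c, rfl⟩ := hv
        simpa [hx] using h5 x c
      · simpa using hv _ x.2
    · rw [← MonoidHom.range_eq_top, MonoidHom.range_eq_map, ← hs, MonoidHom.map_closure,
        Set.image_pair, h3, h4]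
      exact closure_upT_loT_zmod one_ne_zero (mul_ne_zero h2 h1)
  exact ⟨⟨_, hinj, MulEquiv.ofBijective φ hbij, h5, hr, hc⟩, h3, h4⟩

theorem exists_isTransv [Finite M] (hρ : Function.Injective ρ) (h1 : a ≠ 1) (hp1 : a ^ p = 1)
    (hc : Nat.card (commSub ρ (zpowers a)) = p) : ∃ f u, IsTransv ρ a f u := by
  obtain ⟨x₀, hx₀⟩ : ∃ x, ρ a x - x ≠ 0 := by
    by_contra hcon
    push Not at hcon
    exact h1 (hρ (LinearMap.ext fun x => by simpa [sub_eq_zero] using hcon x))
  set u := ρ a x₀ - x₀ with hu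
  have hle : (ZMod p) ∙ u ≤ commSub ρ (zpowers a) :=
    (Submodule.span_singleton_le_iff_mem _ _).mpr (sub_mem_commSub (mem_zpowers a) x₀)
  have heq : (ZMod p) ∙ u = commSub ρ (zpowers a) := by
    apply Submodule.toAddSubgroup_injective
    refine AddSubgroup.eq_of_le_of_card_ge hle (hc.le.trans ?_)
    exact ((Nat.card_congr (LinearEquiv.toSpanNonzeroSingleton (ZMod p) M u hx₀).toEquiv).symm.trans
      (Nat.card_zmod p)).ge
  let f : M →ₗ[ZMod p] ZMod p := (LinearEquiv.coord (ZMod p) M u hx₀).toLinearMap ∘ₗ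
    LinearMap.codRestrict _ (ρ a - 1) (fun x => heq ▸ sub_mem_commSub (mem_zpowers a) x)
  have hf : ∀ x, ρ a x = x + f x • u := fun x => by
    have : f x • u = ρ a x - x := LinearEquiv.coord_apply_smul (ZMod p) M u hx₀ _
    rw [this]; abel
  refine ⟨f, u, hx₀, ⟨x₀, fun h0 => hx₀ ?_⟩, ?_, hf⟩
  · rw [hu, hf, h0]; simp
  · have hk : ∀ k : ℕ, ρ (a ^ k) u = (1 + f u) ^ k • u := fun k => by
      induction k with
      | zero => simp
      | succ k ih =>
        rw [pow_succ', rep_mul_apply, ih, map_smul, hf u, pow_succ, mul_smul, add_smul, one_smul]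
    have := hk p
    rw [hp1, map_one, ZMod.pow_card, add_smul, one_smul] at this
    simpa [hx₀] using this

/-- The subgroup `[N, a] ⟨a⟩`. -/
abbrev transvE (N : Subgroup H) (a : H) : Subgroup H := ⁅N, zpowers a⁆ ⊔ zpowers a

theorem mem_transvE (N : Subgroup H) (a : H) : a ∈ transvE N a := mem_sup_right (mem_zpowers a)

theorem conj_mem_transvE {N : Subgroup H} (a : H) {n : H} (hn : n ∈ N) :
    n * a * n⁻¹ ∈ transvE N a := by
  have := mul_mem (mem_sup_left (commutator_mem_commutator hn (mem_zpowers a)))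
    (mem_transvE N a)
  simpa [commutatorElement_def] using this

theorem transvE_le {N X : Subgroup H} {a : H} (h : ∀ n ∈ N, n * a * n⁻¹ ∈ X) :
    transvE N a ≤ X := by
  have ha : a ∈ X := by simpa using h 1 (one_mem N)
  refine sup_le (commutator_le.mpr ?_) (zpowers_le.mpr ha)
  rintro n hn _ ⟨k, rfl⟩
  refine mul_mem ?_ (inv_mem (zpow_mem ha k))
  rw [← conj_zpow]
  exact zpow_mem (h n hn) k

theorem le_normalizer_transvE (N : Subgroup H) (a : H) :
    N ≤ normalizer (transvE N a : Set H) := by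
  refine le_normalizer_iff.mpr fun n hn x hx => ?_
  refine transvE_le (X := (transvE N a).comap (MulAut.conj n).toMonoidHom) (fun m hm => ?_) hx
  have := conj_mem_transvE a (mul_mem hn hm)
  simpa [mul_assoc] using this

variable {N : Subgroup H} [hN : N.Normal]

theorem inv_mul_conj_mem {e : H} (he : e ∈ transvE N a) : a⁻¹ * (e * a * e⁻¹) ∈ N := by
  have h1 : transvE N a ≤ (centralizer {(a : H ⧸ N)}).comap (QuotientGroup.mk' N) := by
    refine transvE_le fun n hn => ?_
    rw [mem_comap, mem_centralizer_singleton_iff]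
    simp [(QuotientGroup.eq_one_iff n).mpr hn]
  have h2 := mem_centralizer_singleton_iff.mp (h1 he)
  rw [← QuotientGroup.eq]
  simp only [QuotientGroup.mk'_apply] at h2
  simp [h2]

variable [Finite H] (hρ : Function.Injective ρ) (hcop : (Nat.card N).Coprime p)
include hρ hcop

omit hρ hp hN in
theorem eq_one_of_mem_of_pow {x : H} (hx : x ∈ N) {k : ℕ} (hk : x ^ p ^ k = 1) : x = 1 := by
  rw [← orderOf_eq_one_iff]
  exact Nat.eq_one_of_dvd_coprimes (hcop.pow_right k) (orderOf_dvd_natCard _ hx)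
    (orderOf_dvd_of_pow_eq_one hk)

omit hN in
theorem IsTransv.not_mem (ha : IsTransv ρ a f u) : a ∉ N := fun h =>
  ha.ne_one (eq_one_of_mem_of_pow hcop h (k := 1)
    (by rw [pow_one, pow_eq_one_of_quadratic_rep ρ hρ ha.quadratic]))

omit hN in
theorem IsTransv.ne_zero_of_mem (ha : IsTransv ρ a f u) (hb : IsTransv ρ b g w) (hne : a ≠ b)
    (hab : a⁻¹ * b ∈ N) : f w ≠ 0 ∧ g u ≠ 0 := by
  rw [← not_or]
  intro h
  obtain ⟨k, hk⟩ := pow_eq_one_of_isNilpotent (p := p) (ha.isNilpotent_of hb h)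
  exact hne (inv_mul_eq_one.mp
    (eq_one_of_mem_of_pow hcop hab (hρ (by rw [map_pow, hk, map_one]))))

theorem IsTransv.mem_closure_pair (ha : IsTransv ρ a f u) (hb : IsTransv ρ b g w)
    (hc : IsTransv ρ c h t) (hne : a ≠ b) (hab : a⁻¹ * b ∈ N) (hac : a⁻¹ * c ∈ N) :
    c ∈ closure ({a, b} : Set H) := by
  have haE : a ∈ closure ({a, b} : Set H) := subset_closure (by simp)
  have hbE : b ∈ closure ({a, b} : Set H) := subset_closure (by simp)
  by_contra hcon
  have h1 := (ha.ne_zero_of_mem hρ hcop hb hne hab).2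
  have h2 := (hc.ne_zero_of_mem hρ hcop hb (fun e => hcon (e ▸ hbE))
    (by simpa [mul_assoc] using mul_mem (inv_mem hac) hab)).1
  obtain ⟨k, hk⟩ := ZMod.natCast_zmod_surjective (-h u * (g u * h w)⁻¹)
  have h3 := (hc.ne_zero_of_mem hρ hcop (ha.conj (b ^ k))
    (fun e => hcon (e ▸ mul_mem (mul_mem (pow_mem hbE k) haE) (inv_mem (pow_mem hbE k)))) (by
      rw [← QuotientGroup.eq] at hab hac ⊢
      simp only [QuotientGroup.mk_mul, QuotientGroup.mk_pow, QuotientGroup.mk_inv, ← hab, ← hac]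
      group)).1
  apply h3
  rw [hb.pow_apply, hk, map_add, map_smul, smul_eq_mul]
  field_simp
  ring

theorem IsTransv.transvE_eq (ha : IsTransv ρ a f u) {n : H} (hn : n ∈ N) (hna : n * a ≠ a * n) :
    transvE N a = closure {a, n * a * n⁻¹} := by
  refine le_antisymm (transvE_le fun m hm => ha.mem_closure_pair hρ hcop (ha.conj n) (ha.conj m)
    (fun e => hna (eq_mul_inv_iff_mul_eq.mp e).symm) ?_ ?_) ((closure_le _).mpr ?_)
  · simpa [mul_assoc] using mul_mem (hN.conj_mem' n hn a) (inv_mem hn)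
  · simpa [mul_assoc] using mul_mem (hN.conj_mem' m hm a) (inv_mem hm)
  · rintro _ (rfl | rfl)
    exacts [mem_transvE N _, conj_mem_transvE a hn]

theorem IsTransv.exists_plane (ha : IsTransv ρ a f u) {n : H} (hn : n ∈ N) (hna : n * a ≠ a * n) :
    Nonempty (Plane ρ (transvE N a)) ∧ (p = 2 ∨ p = 3) := by
  have hab : a⁻¹ * (n * a * n⁻¹) ∈ N := by
    simpa [mul_assoc] using mul_mem (hN.conj_mem' n hn a) (inv_mem hn)
  obtain ⟨h1, h2⟩ := ha.ne_zero_of_mem hρ hcop (ha.conj n)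
    (fun e => hna (eq_mul_inv_iff_mul_eq.mp e).symm) hab
  obtain ⟨P, h3, h4⟩ := Quad.exists_plane hρ ha (ha.conj n) h1 h2
  refine ⟨by rw [ha.transvE_eq hρ hcop hn hna]; exact ⟨P⟩, ?_⟩
  refine or_iff_not_imp_left.mpr fun hp2 => (eq_three_of_upT_loT hp2 P.iso.toMonoidHom
    (mul_ne_zero h2 h1) h3 h4 (N.subgroupOf _) hab fun h5 => ?_).1
  have h6 := (mem_map_iff_mem (f := P.iso.toMonoidHom) P.iso.injective).mp h5
  exact ha.not_mem hρ hcop h6

omit hρ hcop [Finite H] in
theorem IsTransv.commSub_le (ha : IsTransv ρ a f u) (P : Plane ρ (transvE N a))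
    {U : Submodule (ZMod p) M} (hU : N ≤ stabSub ρ U) (hne : U ⊓ commSub ρ (transvE N a) ≠ ⊥) :
    commSub ρ (transvE N a) ≤ U := by
  obtain ⟨y, ⟨hyU, hyW⟩, hy⟩ := (Submodule.ne_bot_iff _).mp hne
  obtain ⟨e, he, rfl⟩ := P.exists_apply_eq (ha.mem_commSub (mem_transvE N a)) ha.u_ne hyW hy
  have h1 : a ∈ stabSub ρ U := by
    have := mul_mem ((ha.conj e).mem_stabSub hyU) (inv_mem (hU (inv_mul_conj_mem he)))
    simpa [mul_assoc] using this
  have h2 : transvE N a ≤ stabSub ρ U :=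
    transvE_le fun n hn => mul_mem (mul_mem (hU hn) h1) (inv_mem (hU hn))
  intro z hz
  by_cases h0 : z = 0
  · rw [h0]; exact zero_mem _
  obtain ⟨e', he', rfl⟩ := P.exists_apply_eq hyW hy hz h0
  exact (h2 he' _).mp hyU

omit hρ hcop [Finite H] hN in
theorem le_stabSub_commSub (a : H) : N ≤ stabSub ρ (commSub ρ (transvE N a)) :=
  le_stabSub fun _ hn _ hx => apply_mem_commSub (le_normalizer_transvE N a hn) hx

omit hρ hcop [Finite H] hN in
theorem le_stabSub_fixSub (a : H) : N ≤ stabSub ρ (fixSub ρ (transvE N a)) :=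
  le_stabSub fun _ hn _ hx => apply_mem_fixSub (le_normalizer_transvE N a hn) hx

omit hcop [Finite H] in
theorem IsTransv.fixSub_inf (ha : IsTransv ρ a f u) (P : Plane ρ (transvE N a)) {n : H}
    (hn : n ∈ N) (hna : n * a ≠ a * n) : fixSub ρ (N ⊓ transvE N a) = fixSub ρ (transvE N a) := by
  have h1 : fixSub ρ (N ⊓ transvE N a) ⊓ commSub ρ (transvE N a) = ⊥ := by
    by_contra hne
    have h2 := ha.commSub_le P (le_stabSub fun _ hm _ hx => apply_mem_fixSub
      (le_normalizer_inf le_normalizer (le_normalizer_transvE N a) hm) hx) hne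
    have h3 : a⁻¹ * (n * a * n⁻¹) ∈ N ⊓ transvE N a := mem_inf.mpr
      ⟨by simpa [mul_assoc] using mul_mem (hN.conj_mem' n hn a) (inv_mem hn),
        mul_mem (inv_mem (mem_transvE N a)) (conj_mem_transvE a hn)⟩
    have h4 := eq_of_isCompl hρ P.compl (x := a⁻¹ * (n * a * n⁻¹)) (y := 1)
      (fun v hv => by simpa using h2 hv _ h3) (fun v hv => by simpa using hv _ h3.2)
    exact hna (eq_mul_inv_iff_mul_eq.mp (inv_mul_eq_one.mp h4)).symm
  refine le_antisymm (fun x hx => ?_) (fixSub_anti inf_le_right)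
  obtain ⟨s, hs, t, ht, rfl⟩ :=
    Submodule.mem_sup.mp (P.compl.sup_eq_top ▸ Submodule.mem_top (x := x))
  have h5 : s ∈ fixSub ρ (N ⊓ transvE N a) ⊓ commSub ρ (transvE N a) :=
    ⟨by simpa using sub_mem hx (fixSub_anti inf_le_right ht), hs⟩
  rw [h1, Submodule.mem_bot] at h5
  rwa [h5, zero_add]

omit hcop [Finite H] in
theorem IsTransv.le_fixSub_of_inf (ha : IsTransv ρ a f u) (P : Plane ρ (transvE N a)) {n : H}
    (hn : n ∈ N) (hna : n * a ≠ a * n) {U : Submodule (ZMod p) M} (hU : N ≤ stabSub ρ U)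
    (h0 : U ⊓ commSub ρ (transvE N a) = ⊥) : U ≤ fixSub ρ (transvE N a) := by
  rw [← ha.fixSub_inf hρ P hn hna]
  intro x hx m hm
  have : ρ m x - x ∈ U ⊓ commSub ρ (transvE N a) :=
    ⟨sub_mem ((hU hm.1 x).mp hx) hx, sub_mem_commSub hm.2 x⟩
  rwa [h0, Submodule.mem_bot, sub_eq_zero] at this

omit hcop [Finite H] in
theorem IsTransv.transvE_le_of_eq (ha : IsTransv ρ a f u) (P : Plane ρ (transvE N a)) {n : H}
    (hn : n ∈ N) (hna : n * a ≠ a * n) (Q : Plane ρ (transvE N c))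
    (he : commSub ρ (transvE N a) = commSub ρ (transvE N c)) : transvE N a ≤ transvE N c := by
  have h1 : a ∈ transvE N c := by
    refine Q.mem_of_transv hρ ha (he ▸ ha.mem_commSub (mem_transvE N a)) fun x hx => ?_
    refine ha.apply_eq_zero (ha.le_fixSub_of_inf hρ P hn hna (le_stabSub_fixSub c) ?_ hx _
      (mem_transvE N a))
    rw [he, inf_comm]
    exact Q.compl.inf_eq_bot
  exact transvE_le fun m hm => conj_mem_of_mem_normalizer (le_normalizer_transvE N c hm) h1

omit hcop [Finite H] in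
theorem IsTransv.dichotomy (ha : IsTransv ρ a f u) (P : Plane ρ (transvE N a)) {n : H}
    (hn : n ∈ N) (hna : n * a ≠ a * n) (hc : IsTransv ρ c h t) (Q : Plane ρ (transvE N c)) {m : H}
    (hm : m ∈ N) (hmc : m * c ≠ c * m) :
    transvE N a = transvE N c ∨ commSub ρ (transvE N a) ≤ fixSub ρ (transvE N c) := by
  by_cases h0 : commSub ρ (transvE N a) ⊓ commSub ρ (transvE N c) = ⊥
  · exact Or.inr (hc.le_fixSub_of_inf hρ Q hm hmc (le_stabSub_commSub a) h0)
  · have he := le_antisymm (ha.commSub_le P (le_stabSub_commSub c) (by rwa [inf_comm]))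
      (hc.commSub_le Q (le_stabSub_commSub a) h0)
    exact Or.inl (le_antisymm (ha.transvE_le_of_eq hρ P hn hna Q he)
      (hc.transvE_le_of_eq hρ Q hm hmc P he.symm))

omit hcop [Finite H] in
theorem IsTransv.commSub_le_commSub (ha : IsTransv ρ a f u) (P : Plane ρ (transvE N a)) {n : H}
    (hn : n ∈ N) (hna : n * a ≠ a * n) : commSub ρ (transvE N a) ≤ commSub ρ N := by
  refine ha.commSub_le P (le_stabSub fun _ hm _ hx => apply_mem_commSub (le_normalizer hm) hx)
    fun h0 => ?_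
  have h1 : commSub ρ (transvE N a) ≤ fixSub ρ (transvE N a) := by
    rw [← ha.fixSub_inf hρ P hn hna]
    intro x hx m hm
    have : ρ m x - x ∈ commSub ρ N ⊓ commSub ρ (transvE N a) :=
      ⟨sub_mem_commSub hm.1 x, sub_mem_commSub hm.2 x⟩
    rwa [h0, Submodule.mem_bot, sub_eq_zero] at this
  have h2 := ha.mem_commSub (mem_transvE N a)
  exact ha.u_ne (Submodule.disjoint_def.mp P.compl.disjoint u h2 (h1 h2))

end Prime

end Cfsg.Lib.Quad
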